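import Cfsg.Agent.Lib.Lie.Feit.InvolutionEqs

/-!
The kernel is not a nonabelian group of odd prime power order when the two-point stabiliser is small.
-/

set_option autoImplicit false
set_option linter.unusedSectionVars false
set_option linter.style.haveILetI false

namespace Cfsg.Agent.Lie.Feit

open MulAction Cfsg
open Cfsg.Agent.Lie.ZassenhausCount
open Cfsg.Agent.Char
open scoped ComplexConjugate

universe u v

/-- The multiplicity pattern forced by the three sums. -/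
theorem mult_pattern {ι : Type*} (R N : Finset ι) (n nb : ι → ℕ) (ν : ι → ℤ) (m : ℕ)
    (hnb : ∀ i ∈ R, nb i = n i) (hν : ∀ i ∈ R, ν i ≤ 1)
    (h1 : ∑ i ∈ R, n i * n i + ∑ i ∈ N, n i * n i = m + 1)
    (h2 : (m : ℤ) ≤ ∑ i ∈ R, ν i * n i)
    (h3 : ∑ i ∈ R, nb i * n i + ∑ i ∈ N, nb i * n i = m) :
    (∀ i ∈ R, n i ≤ 1) ∧ (R.filter fun i => n i = 1).card = m ∧ (∀ i ∈ N, nb i * n i = 0) ∧
      ∃ i ∈ N, n i = 1 ∧ ∀ j ∈ N, j ≠ i → n j = 0 := by
  classical
  rw [Finset.sum_congr rfl fun i hi => by rw [hnb i hi]] at h3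
  have hle : ∀ i ∈ R, n i ≤ n i * n i := fun i _ => Nat.le_mul_self _
  have h4 : (m : ℤ) ≤ ((∑ i ∈ R, n i : ℕ) : ℤ) := by
    push_cast
    exact h2.trans (Finset.sum_le_sum fun i hi => mul_le_of_le_one_left (by positivity) (hν i hi))
  have h5 : ∑ i ∈ R, n i ≤ ∑ i ∈ R, n i * n i := Finset.sum_le_sum hle
  have h4' : m ≤ ∑ i ∈ R, n i := by exact_mod_cast h4
  have h9 : ∑ i ∈ R, n i = ∑ i ∈ R, n i * n i := by omega
  have heq := (Finset.sum_eq_sum_iff_of_le (f := fun i => n i) hle).1 h9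
  have hle1 : ∀ i ∈ R, n i ≤ 1 := fun i hi => by
    by_contra hgt
    have h6 : 2 * n i ≤ n i * n i := Nat.mul_le_mul_right _ (by omega)
    have := heq i hi
    omega
  refine ⟨hle1, ?_, fun i hi => ?_, ?_⟩
  · rw [Finset.card_filter, Finset.sum_congr rfl fun i hi =>
      show (if n i = 1 then 1 else 0) = n i by have := hle1 i hi; split_ifs <;> omega]
    have h10 : ∑ i ∈ R, n i = m := by omega
    exact h10
  · have : ∑ i ∈ N, nb i * n i = 0 := by omega
    exact Finset.sum_eq_zero_iff.1 this i hi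
  · have h6 : ∑ i ∈ N, n i * n i = 1 := by omega
    obtain ⟨i, hi, hne⟩ := Finset.exists_ne_zero_of_sum_ne_zero (by rw [h6]; norm_num)
    have h7 := Finset.add_sum_erase N (fun i => n i * n i) hi
    refine ⟨i, hi, ?_, fun j hj hji => ?_⟩
    · have h8 : n i * n i = 1 := by omega
      exact Nat.dvd_one.1 ⟨n i, h8.symm⟩
    · have h8 : ∑ i ∈ N.erase i, n i * n i = 0 := by omega
      exact mul_self_eq_zero.1 (Finset.sum_eq_zero_iff.1 h8 j (Finset.mem_erase.2 ⟨hji, hj⟩))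

theorem numeric_contradiction {m h e S D A Q d₀ : ℕ} (he : e = 2 * m + 1) (hm : 0 < m)
    (hh : (2 * e + 1) ^ 2 ≤ h) (hS : S = m * (h + 1) + 1) (hsum : D + d₀ + A = S) (hd₀ : d₀ ≤ e * e)
    (hA : A * A ≤ (m - 1) * Q) (hQ : 2 * (D * D) + Q ≤ (h - 1) * S) : False := by
  obtain ⟨n, rfl⟩ : ∃ n, m = n + 1 := ⟨m - 1, by omega⟩
  simp only [Nat.add_sub_cancel] at hA
  obtain ⟨j, rfl⟩ : ∃ j, h = j + 1 := ⟨h - 1, by have : 1 ≤ (2 * e + 1) ^ 2 := Nat.one_le_pow _ _ (by omega); omega⟩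
  simp only [Nat.add_sub_cancel] at hQ
  zify at hA hQ hh hd₀ hsum hS he
  have key : 2 * ((D : ℤ) + A) ^ 2 ≤ (2 * (n : ℤ) + 1) * (2 * (D * D) + Q) := by
    rcases Nat.eq_zero_or_pos n with h0 | hn
    · subst h0
      have : (A : ℤ) = 0 := mul_self_eq_zero.1 (le_antisymm (by simpa using hA) (mul_self_nonneg _))
      rw [this]
      push_cast
      nlinarith
    · have hn' : (0 : ℤ) < n := by exact_mod_cast hn
      have h1 : 0 ≤ (n : ℤ) * (4 * n * (D * D) + Q - 4 * D * A) := by nlinarith [sq_nonneg (2 * (n : ℤ) * D - A)]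
      nlinarith [nonneg_of_mul_nonneg_right h1 hn']
  have h2 : (S : ℤ) - e * e ≤ D + A := by linarith
  have h3 : (0 : ℤ) ≤ (S : ℤ) - e * e := by nlinarith
  have h4 : 2 * ((S : ℤ) - e * e) ^ 2 ≤ (2 * (n : ℤ) + 1) * (j * S) := by
    calc 2 * ((S : ℤ) - e * e) ^ 2 ≤ 2 * ((D : ℤ) + A) ^ 2 := by gcongr
      _ ≤ _ := key
      _ ≤ _ := by gcongr
  have h5 : (0 : ℤ) < 2 * S - 4 * (e * e) - (2 * n + 1) * j := by rw [hS]; push_cast; nlinarith
  have h6 : (0 : ℤ) < (S : ℤ) := by rw [hS]; positivity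
  nlinarith [mul_pos h6 h5, sq_nonneg ((e : ℤ) * e)]

variable {G : Type u} {Ω : Type v} [Group G] [MulAction G Ω] [Fintype Ω] [FaithfulSMul G Ω] [Fintype G]
  [IsSimpleGroup G] {H : Subgroup G} {a b : Ω} {h e : ℕ}

namespace Ctx

variable (X : Ctx G Ω H a b h e) [Fintype ↥(stabilizer G a)] [Fintype H]
include X

/-- An irreducible character of the stabiliser constant on the kernel is linear. -/
theorem const_linear (θ : IrrCharacter ↥(stabilizer G a))
    (hθ : ∀ k ∈ H.subgroupOf (stabilizer G a), (θ : ↥(stabilizer G a) → ℂ) k = (θ : ↥(stabilizer G a) → ℂ) 1) :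
    ∃ l : ↥(stabilizer G a) →* ℂˣ, (∀ u : ↥(stabilizer G a), (u : G) ∈ H → l u = 1) ∧
      (θ : ↥(stabilizer G a) → ℂ) = fun g => (l g : ℂ) := by
  classical
  haveI := X.normalK
  haveI := Fintype.ofFinite (H.subgroupOf (stabilizer G a))
  let L := {l : ↥(stabilizer G a) →* ℂˣ // ∀ u : ↥(stabilizer G a), (u : G) ∈ H → l u = 1}
  haveI : Finite L := Nat.finite_of_card_ne_zero (by rw [X.card_lin]; have := X.e_pos; omega)
  haveI : Fintype L := Fintype.ofFinite L
  let ι : L → IrrCharacter ↥(stabilizer G a) := fun l => ⟨_, isIrrCharacter_linear l.1⟩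
  have hι : Function.Injective ι := fun l l' e' =>
    Subtype.ext (MonoidHom.ext fun g => Units.ext (congrFun (congrArg Subtype.val e') g))
  set T := Finset.univ.filter fun χ : IrrCharacter ↥(stabilizer G a) => χ ∉ ncChars (H.subgroupOf (stabilizer G a))
    with hT
  have hsq := sum_sq_const (H.subgroupOf (stabilizer G a)) X.centralizerK
  rw [X.indexK, ← hT, Finset.sum_congr rfl fun χ _ => by
    rw [char_one_eq_deg (irr_isCharacter χ.2)]] at hsq
  have hsq' : ∑ χ ∈ T, deg (χ : ↥(stabilizer G a) → ℂ) ^ 2 = e := by exact_mod_cast hsq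
  have hsub : Finset.univ.image ι ⊆ T := fun χ hχ => by
    obtain ⟨l, -, rfl⟩ := Finset.mem_image.1 hχ
    rw [hT, Finset.mem_filter, mem_ncChars]
    refine ⟨Finset.mem_univ _, ?_⟩
    rintro ⟨k, hk, hne⟩
    exact hne (by simp [ι, l.2 k (Subgroup.mem_subgroupOf.1 hk)])
  have hθT : θ ∈ T := by
    rw [hT, Finset.mem_filter, mem_ncChars]
    exact ⟨Finset.mem_univ _, fun ⟨k, hk, hne⟩ => hne (hθ k hk)⟩
  by_contra hcon
  have hnot : θ ∉ Finset.univ.image ι := fun hm => by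
    obtain ⟨l, -, rfl⟩ := Finset.mem_image.1 hm
    exact hcon ⟨l.1, l.2, rfl⟩
  have h1 := Finset.sum_le_sum_of_subset (f := fun χ : IrrCharacter ↥(stabilizer G a) =>
    deg (χ : ↥(stabilizer G a) → ℂ) ^ 2) (Finset.insert_subset hθT hsub)
  rw [Finset.sum_insert hnot, hsq', Finset.sum_image fun x _ y _ e' => hι e'] at h1
  have h2 : ∀ l : L, deg (ι l : ↥(stabilizer G a) → ℂ) = 1 := fun l => by
    have h3 : ((deg (ι l : ↥(stabilizer G a) → ℂ) : ℕ) : ℂ) = ((1 : ℕ) : ℂ) := by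
      rw [← char_one_eq_deg (irr_isCharacter (ι l).2)]; simp [ι]
    exact_mod_cast h3
  rw [Finset.sum_congr rfl fun l _ => by rw [h2 l, one_pow], Finset.sum_const, smul_eq_mul, mul_one,
    Finset.card_univ, ← Nat.card_eq_fintype_card, X.card_lin] at h1
  have := Nat.one_le_pow 2 _ (deg_pos θ.2)
  omega

/-- A character meeting no linear character of the stabiliser trivial on the kernel. -/
theorem other_props {χ : IrrCharacter G}
    (horth : ∀ l : ↥(stabilizer G a) →* ℂˣ, (∀ u : ↥(stabilizer G a), (u : G) ∈ H → l u = 1) →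
      classInner (fun g : stabilizer G a => (χ : G → ℂ) g) (fun g => (l g : ℂ)) = 0) :
    ∑ u : H, (χ : G → ℂ) u = 0 ∧ e ∣ deg (χ : G → ℂ) := by
  classical
  haveI := X.normalK
  haveI := Fintype.ofFinite (H.subgroupOf (stabilizer G a))
  set K := H.subgroupOf (stabilizer G a) with hK
  obtain ⟨c, hc⟩ := exists_decomposition (isCharacter_comp (stabilizer G a).subtype (irr_isCharacter χ.2))
  have hnc : ∀ θ : IrrCharacter ↥(stabilizer G a), c θ ≠ 0 → θ ∈ ncChars K := by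
    intro θ hθ
    by_contra hcon
    rw [mem_ncChars] at hcon
    push Not at hcon
    obtain ⟨l, hl, hθl⟩ := X.const_linear θ hcon
    have h1 := decomposition_coeff c hc θ
    rw [hθl] at h1
    exact hθ (by exact_mod_cast h1.symm.trans (horth l hl))
  have h0 : ∀ g : ↥(stabilizer G a), (χ : G → ℂ) g =
      ∑ θ : IrrCharacter ↥(stabilizer G a), (c θ : ℂ) * (θ : ↥(stabilizer G a) → ℂ) g := fun g => by
    have := congrFun hc g
    simpa [Finset.sum_apply, nsmul_eq_mul] using this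
  refine ⟨?_, ?_⟩
  · have h1 : ∑ k : K, (χ : G → ℂ) ((k : ↥(stabilizer G a)) : G) = ∑ u : H, (χ : G → ℂ) u :=
      Fintype.sum_equiv (Subgroup.subgroupOfEquivOfLe X.hle).toEquiv _ _ fun k => rfl
    rw [← h1, Fintype.sum_congr _ _ fun k : K => h0 k, Finset.sum_comm]
    refine Finset.sum_eq_zero fun θ _ => ?_
    by_cases hθ : c θ = 0
    · simp [hθ]
    · rw [← Finset.mul_sum, sum_K_eq_zero K X.centralizerK θ ((mem_ncChars K).1 (hnc θ hθ)), mul_zero]
  · have h1 := h0 1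
    rw [OneMemClass.coe_one, char_one_eq_deg (irr_isCharacter χ.2)] at h1
    have h2 : deg (χ : G → ℂ) = ∑ θ : IrrCharacter ↥(stabilizer G a), c θ * deg (θ : ↥(stabilizer G a) → ℂ) := by
      simp only [char_one_eq_deg (irr_isCharacter (Subtype.prop _))] at h1
      exact_mod_cast h1
    rw [h2]
    refine Finset.dvd_sum fun θ _ => ?_
    by_cases hθ : c θ = 0
    · simp [hθ]
    · obtain ⟨ψ, -, hdeg, -⟩ := chSet_induced K X.centralizerK (D := ⊥) (χ := (θ : ↥(stabilizer G a) → ℂ))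
        ⟨θ.2, (mem_ncChars K).1 (hnc θ hθ), fun d hd => by rw [Subgroup.mem_bot.1 hd]⟩
      have hidx : K.index = e := X.indexK
      rw [hdeg, hidx]
      exact Dvd.dvd.mul_left (dvd_mul_right e _) _

omit [Fintype ↥(stabilizer G a)] in
/-- The degree modulo the prime. -/
theorem deg_mod {p : ℕ} (hp : p.Prime) (hpg : IsPGroup p H) (χ : IrrCharacter G) [Fintype (H →* ℂˣ)]
    (n : (H →* ℂˣ) → ℕ)
    (hn : ∀ η : H →* ℂˣ, classInner (fun u : H => (χ : G → ℂ) u) (fun u => (η u : ℂ)) = n η) :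
    ∃ t : ℕ, deg (χ : G → ℂ) = ∑ η, n η + p * t := by
  classical
  haveI := Fact.mk hp
  obtain ⟨c, hc⟩ := exists_decomposition (isCharacter_comp H.subtype (irr_isCharacter χ.2))
  have h1 := congrFun hc 1
  simp only [Function.comp_apply, map_one, Finset.sum_apply, nsmul_eq_mul, Pi.mul_apply, Pi.natCast_apply,
    char_one_eq_deg (irr_isCharacter (Subtype.prop _))] at h1
  have h2 : deg (χ : G → ℂ) = ∑ ψ : IrrCharacter H, c ψ * deg (ψ : H → ℂ) := by exact_mod_cast h1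
  rw [← Finset.sum_filter_add_sum_filter_not Finset.univ (fun ψ : IrrCharacter H => deg (ψ : H → ℂ) = 1)] at h2
  have hdvd : p ∣ ∑ ψ ∈ Finset.univ.filter (fun ψ : IrrCharacter H => ¬ deg (ψ : H → ℂ) = 1),
      c ψ * deg (ψ : H → ℂ) := by
    refine Finset.dvd_sum fun ψ hψ => Dvd.dvd.mul_left ?_ _
    obtain ⟨m, hm⟩ := hpg.exists_card_eq
    obtain ⟨i, -, hi⟩ := (Nat.dvd_prime_pow hp).1 (hm ▸ deg_dvd_card ψ.2)
    rw [hi]
    exact dvd_pow_self p fun h0 => (Finset.mem_filter.1 hψ).2 (by rw [hi, h0, pow_zero])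
  obtain ⟨t, ht⟩ := hdvd
  refine ⟨t, ?_⟩
  rw [h2, ht, add_left_inj]
  symm
  refine Finset.sum_bij (fun η _ => (⟨_, isIrrCharacter_linear η⟩ : IrrCharacter H)) (fun η _ => ?_)
    (fun η _ η' _ e' => MonoidHom.ext fun g => Units.ext (congrFun (congrArg Subtype.val e') g)) (fun ψ hψ => ?_)
    (fun η _ => ?_)
  · rw [Finset.mem_filter]
    refine ⟨Finset.mem_univ _, ?_⟩
    have h3 := char_one_eq_deg (isCharacter_linear η)
    simp only [map_one, Units.val_one] at h3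
    exact_mod_cast h3.symm
  · obtain ⟨l, hl⟩ := exists_hom_of_degree_one (irr_isCharacter ψ.2)
      (by rw [char_one_eq_deg (irr_isCharacter ψ.2), (Finset.mem_filter.1 hψ).2, Nat.cast_one])
    exact ⟨l, Finset.mem_univ _, Subtype.ext hl.symm⟩
  · have h3 := decomposition_coeff c hc ⟨_, isIrrCharacter_linear η⟩
    have h4 := char_one_eq_deg (isCharacter_linear η)
    simp only [map_one, Units.val_one] at h4
    rw [show deg (fun g : H => ((η g : ℂˣ) : ℂ)) = 1 by exact_mod_cast h4.symm, mul_one]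
    exact_mod_cast (hn η).symm.trans h3

/-- The size of a nonabelian kernel of odd prime power order. -/
theorem card_bound (hodd : Odd h) {p : ℕ} (hp : p.Prime) (hpg : IsPGroup p H) (hnc : ¬ IsMulCommutative H) :
    (2 * e + 1) ^ 2 ≤ h ∧ p ∣ Nat.card (H →* ℂˣ) ∧ p ∣ h ∧ 1 < Nat.card (H →* ℂˣ) := by
  classical
  haveI := Fact.mk hp
  haveI := X.normalK
  haveI := Fintype.ofFinite (H.subgroupOf (stabilizer G a))
  haveI : Group.IsNilpotent H := hpg.isNilpotent
  set K := H.subgroupOf (stabilizer G a) with hK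
  obtain ⟨k, hk, -⟩ := chFin_sum_sq K X.centralizerK ⊥ bot_le
  rw [Subgroup.relIndex_bot_left, X.cardK, X.indexK] at hk
  obtain ⟨k₁, hk₁, -⟩ := chFin_sum_sq K X.centralizerK ⁅K, K⁆ (Subgroup.commutator_le_right K K)
  rw [X.indexK] at hk₁
  have ha : Nat.card (H →* ℂˣ) = ⁅K, K⁆.relIndex K := by
    rw [Nat.card_congr (Subgroup.subgroupOfEquivOfLe X.hle).symm.monoidHomCongrLeftEquiv, card_hom_units,
      Subgroup.relIndex, ← Subgroup.map_subtype_commutator]
    exact congrArg Subgroup.index (Subgroup.comap_map_eq_self_of_injective (Subgroup.subtype_injective K) _).symm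
  have hph : p ∣ h := by
    obtain ⟨m, hm⟩ := hpg.exists_card_eq
    rw [X.hcard] at hm
    rw [hm]
    exact dvd_pow_self p fun h0 => by have := X.two; rw [hm, h0, pow_zero] at this; omega
  have hidx := prime_dvd_commutator_index (Q := H) p (by rw [X.hcard]; exact hph)
  rw [← card_hom_units] at hidx
  have hmul := Subgroup.card_mul_index (commutator H)
  rw [← card_hom_units, X.hcard] at hmul
  have hb : 1 < Nat.card (commutator H) := by
    rw [Finite.one_lt_card_iff_nontrivial, Subgroup.nontrivial_iff_ne_bot]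
    exact fun h0 => hnc ((commutator_eq_bot_iff H).1 h0)
  have ha1 : 1 < Nat.card (H →* ℂˣ) := by
    rcases Nat.lt_or_ge 1 (Nat.card (H →* ℂˣ)) with h1 | h1
    · exact h1
    · have : 0 < Nat.card (H →* ℂˣ) := Nat.pos_of_ne_zero fun h0 => by
        rw [h0, mul_zero] at hmul; have := X.two; omega
      rw [show Nat.card (H →* ℂˣ) = 1 by omega] at hidx
      exact absurd (Nat.dvd_one.1 hidx) hp.ne_one
  rw [← hmul, Nat.odd_mul] at hodd
  obtain ⟨A, hA⟩ : ∃ A, Nat.card (H →* ℂˣ) = A := ⟨_, rfl⟩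
  obtain ⟨B, hB⟩ : ∃ B, Nat.card (commutator H) = B := ⟨_, rfl⟩
  rw [hA] at ha ha1 hodd hmul hidx ⊢
  rw [hB] at hb hodd hmul
  refine ⟨?_, hidx, hph, ha1⟩
  rw [← ha] at hk₁
  have he : 1 < e := by have := X.ethree; omega
  have hBm : B % e = 1 := by
    have h1 : (B * A) % e = 1 := by rw [hmul, hk, Nat.mul_add_mod_self_left, Nat.mod_eq_of_lt he]
    rwa [hk₁, Nat.mul_mod, Nat.mul_add_mod_self_left, Nat.mod_eq_of_lt he, mul_one, Nat.mod_mod] at h1
  have hdiv := Nat.div_add_mod B e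
  rw [hBm] at hdiv
  obtain ⟨⟨j, hj⟩, ⟨i, hi⟩⟩ := hodd
  obtain ⟨e', he'⟩ := X.eodd
  have hk2 : 2 ≤ k₁ := by
    by_contra h2
    rcases (show k₁ = 0 ∨ k₁ = 1 by omega) with rfl | rfl
    · rw [mul_zero] at hk₁; omega
    · rw [mul_one] at hk₁; omega
  obtain ⟨q, hq⟩ : ∃ q, B / e = q := ⟨_, rfl⟩
  rw [hq] at hdiv
  have hq2 : 2 ≤ q := by
    by_contra h2
    rcases (show q = 0 ∨ q = 1 by omega) with h0 | h0
    · rw [h0, mul_zero] at hdiv; omega
    · rw [h0, mul_one] at hdiv; omega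
  rw [← hmul]
  have e1 : 2 * e + 1 ≤ A := by rw [hk₁]; nlinarith
  have e2 : 2 * e + 1 ≤ B := by rw [← hdiv]; nlinarith
  rw [sq]
  exact Nat.mul_le_mul e2 e1

set_option maxHeartbeats 1000000 in
theorem false_of_odd_pgroup (hodd : Odd h) {p : ℕ} (hp : p.Prime) (hpg : IsPGroup p H)
    (hnc : ¬ IsMulCommutative H) : False := by
  classical
  haveI := Fact.mk hp
  haveI : Finite (H →* ℂˣ) := Nat.finite_of_card_ne_zero (by have := (X.card_bound hodd hp hpg hnc).2.2.2; omega)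
  haveI : Fintype (H →* ℂˣ) := Fintype.ofFinite _
  obtain ⟨hbound, hpa, hph, ha1⟩ := X.card_bound hodd hp hpg hnc
  obtain ⟨st, P, hP, h1st, h1P, hsP, hstdeg, hstu, hstw, hPv, horth⟩ := X.exists_known
  obtain ⟨m, hem⟩ : ∃ m, e = 2 * m + 1 := X.eodd
  have hPm : P.card = m := by omega
  have hm0 : 0 < m := by have := X.ethree; omega
  have hh : (h : ℂ) ≠ 0 := Nat.cast_ne_zero.2 (by have := X.two; omega)
  set O := (Finset.univ : Finset (IrrCharacter G)) \ insert (oneChar G) (insert st P) with hO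
  have hsplit : ∀ f : IrrCharacter G → ℂ,
      ∑ χ, f χ = f (oneChar G) + (f st + ∑ χ ∈ P, f χ) + ∑ χ ∈ O, f χ := by
    intro f
    rw [← Finset.sum_sdiff (Finset.subset_univ (insert (oneChar G) (insert st P))), ← hO,
      Finset.sum_insert (by rw [Finset.mem_insert]; exact not_or.2 ⟨h1st, h1P⟩), Finset.sum_insert hsP, add_comm]
  have hnotO : ∀ χ : IrrCharacter G, χ ∉ O → χ = oneChar G ∨ χ = st ∨ χ ∈ P := by
    intro χ hχ
    simpa [hO, Finset.mem_sdiff, or_iff_not_imp_left] using hχ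
  have hOprop : ∀ χ ∈ O, ∑ u : H, (χ : G → ℂ) u = 0 ∧ e ∣ deg (χ : G → ℂ) := by
    intro χ hχ
    rw [hO, Finset.mem_sdiff, Finset.mem_insert, Finset.mem_insert, not_or, not_or] at hχ
    exact X.other_props (horth χ hχ.2.1 hχ.2.2.1 hχ.2.2.2)
  -- sums over the kernel
  have hsumH : ∀ (F : G → ℂ) (c d : ℂ), F 1 = c → (∀ u ∈ H, u ≠ 1 → F u = d) →
      ∀ f : H → ℂ, ∑ u : H, F u * f u = (c - d) * f 1 + d * ∑ u : H, f u := by
    intro F c d h1 h2 f
    rw [← Finset.add_sum_erase _ _ (Finset.mem_univ (1 : H)), ← Finset.add_sum_erase _ f (Finset.mem_univ (1 : H)),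
      Finset.sum_congr rfl (g := fun u => d * f u) fun (u : H) hu => by
        rw [h2 u u.2 fun e => (Finset.mem_erase.1 hu).1 (Subtype.ext e)], ← Finset.mul_sum, OneMemClass.coe_one, h1]
    ring
  have hcH : (Fintype.card H : ℂ) = h := by rw [← Nat.card_eq_fintype_card, X.hcard]
  have hsum_ne : ∀ χ : IrrCharacter G, χ ∉ O →
      conj (∑ u : H, (χ : G → ℂ) u) ≠ 0 := by
    intro χ hχ h0
    rw [map_eq_zero] at h0
    rcases hnotO χ hχ with rfl | rfl | hχP
    · simp [oneChar, hcH, hh] at h0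
    · have h1 := hsumH _ _ _ hstdeg hstu fun _ => 1
      simp only [mul_one, zero_mul, add_zero, sub_zero] at h1
      exact hh (h1.symm.trans h0)
    · have h1 := hsumH _ _ _ (hPv χ hχP).1 (hPv χ hχP).2.1 fun _ => 1
      simp only [mul_one, Finset.sum_const, Finset.card_univ, nsmul_eq_mul, one_mul, hcH] at h1
      rw [h0, show (h : ℂ) + 1 - 1 + h = 2 * h by ring] at h1
      exact mul_ne_zero two_ne_zero hh h1.symm
  have hconjO : ∀ χ ∈ O, irrConj χ ∈ O := by
    intro χ hχ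
    by_contra hcon
    refine hsum_ne _ hcon ?_
    simp [map_sum, (hOprop χ hχ).1]
  -- the multiplicities
  have hnex : ∀ (η : H →* ℂˣ) (χ : IrrCharacter G), ∃ n : ℕ,
      classInner (fun u : H => (χ : G → ℂ) u) (fun u => (η u : ℂ)) = n := fun η χ =>
    classInner_natCast (isCharacter_comp H.subtype (irr_isCharacter χ.2)) (isCharacter_linear η)
  choose n hn using hnex
  have hn_inv : ∀ η χ, n η⁻¹ χ = n η (irrConj χ) := by
    intro η χ
    have h1 : classInner (fun u : H => (χ : G → ℂ) u) (fun u => ((η⁻¹ u : ℂˣ) : ℂ)) =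
        conj (classInner (fun u : H => (irrConj χ : G → ℂ) u) (fun u => (η u : ℂ))) := by
      simp only [classInner, map_mul, map_inv₀, map_natCast, map_sum, irrConj_apply, Complex.conj_conj]
      congr 1
      refine Finset.sum_congr rfl fun u _ => ?_
      rw [← lin_conj η u, Complex.conj_conj]
    rw [hn, hn, map_natCast] at h1
    exact_mod_cast h1
  have hn_one : ∀ η, η ≠ 1 → (n η (oneChar G) : ℂ) = 0 := by
    intro η hη
    rw [← hn, classInner]
    simp [oneChar, sum_lin η hη]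
  have hn_st : ∀ η, η ≠ 1 → (n η st : ℂ) = 1 := by
    intro η hη
    rw [← hn, classInner, X.hcard, hsumH _ _ _ hstdeg hstu, sum_lin η hη, mul_zero, add_zero, sub_zero, map_one,
      Units.val_one, map_one, mul_one, inv_mul_cancel₀ hh]
  have hn_P : ∀ η, η ≠ 1 → ∀ χ ∈ P, (n η χ : ℂ) = 1 := by
    intro η hη χ hχ
    rw [← hn, classInner, X.hcard, hsumH _ _ _ (hPv χ hχ).1 (hPv χ hχ).2.1, sum_lin η hη, mul_zero, add_zero,
      map_one, Units.val_one, map_one, mul_one, add_sub_cancel_right, inv_mul_cancel₀ hh]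
  have hsplit_n : ∀ η, η ≠ 1 → ∀ f : IrrCharacter G → ℂ,
      ∑ χ, f χ * (n η χ : ℂ) = f st + ∑ χ ∈ P, f χ + ∑ χ ∈ O, f χ * (n η χ : ℂ) := by
    intro η hη f
    rw [hsplit, hn_one η hη, hn_st η hη, mul_zero, zero_add, mul_one,
      Finset.sum_congr rfl fun χ hχ => by rw [hn_P η hη χ hχ, mul_one]]
  -- sums of products
  have hinv : ∀ η : H →* ℂˣ, η ≠ 1 → η⁻¹ ≠ 1 := fun η hη e' =>
    hη (MonoidHom.ext fun u => inv_eq_one.1 (DFunLike.congr_fun e' u))
  have hprod : ∀ η η', η ≠ 1 → η' ≠ 1 → (∀ x, X.twist x η' ≠ η) → ∑ χ ∈ O, n η' χ * n η χ = m := by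
    intro η η' hη hη' hno
    have h1 := X.mult_prod (η' := η') hη
    haveI : IsEmpty {x : ↥(stabilizer G a) // X.twist x η' = η} := ⟨fun x => hno x.1 x.2⟩
    simp only [hn, Nat.card_of_isEmpty, Nat.cast_zero, mul_zero, add_zero] at h1
    rw [hsplit_n η hη, hn_st η' hη', Finset.sum_congr rfl (fun χ hχ => hn_P η' hη' χ hχ), Finset.sum_const,
      nsmul_one, hPm] at h1
    have h2 : ((1 + m + ∑ χ ∈ O, n η' χ * n η χ : ℕ) : ℂ) = ((e : ℕ) : ℂ) := by push_cast; exact h1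
    have h3 : 1 + m + ∑ χ ∈ O, n η' χ * n η χ = e := by exact_mod_cast h2
    omega
  have hsq : ∀ η, η ≠ 1 → ∑ χ ∈ O, n η χ * n η χ = m + 1 := by
    intro η hη
    have h1 := X.mult_prod (η' := η) hη
    rw [X.mult_self hη, inv_mul_cancel₀ hh] at h1
    simp only [hn] at h1
    rw [hsplit_n η hη, hn_st η hη, Finset.sum_congr rfl (fun χ hχ => hn_P η hη χ hχ), Finset.sum_const,
      nsmul_one, hPm] at h1
    have h2 : ((1 + m + ∑ χ ∈ O, n η χ * n η χ : ℕ) : ℂ) = ((e + 1 : ℕ) : ℂ) := by push_cast; exact h1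
    have h3 : 1 + m + ∑ χ ∈ O, n η χ * n η χ = e + 1 := by exact_mod_cast h2
    omega
  -- the indicators
  have hνex : ∀ χ : IrrCharacter G, ∃ z : ℤ, indicator2 (χ : G → ℂ) = z ∧ z ≤ 1 ∧ (irrConj χ ≠ χ → z = 0) := by
    intro χ
    by_cases h0 : indicator2 (χ : G → ℂ) = 0
    · exact ⟨0, by simp [h0], by norm_num, fun _ => rfl⟩
    · have hre : irrConj χ = χ := (irrConj_eq_iff χ).2 fun g => indicator_real χ.2 h0 g
      rcases (indicator_trichotomy χ.2).1 with h | h | h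
      · exact absurd h h0
      · exact ⟨1, by simp [h], le_rfl, fun hh => absurd hre hh⟩
      · exact ⟨-1, by simp [h], by norm_num, fun hh => absurd hre hh⟩
  choose ν hν hν1 hν0 using hνex
  set R := O.filter fun χ => irrConj χ = χ with hR
  set N := O.filter fun χ => ¬ irrConj χ = χ with hN
  have hRN : ∀ f : IrrCharacter G → ℕ, ∑ χ ∈ R, f χ + ∑ χ ∈ N, f χ = ∑ χ ∈ O, f χ := fun f =>
    Finset.sum_filter_add_sum_filter_not O _ f
  have hpat : ∀ η, η ≠ 1 → (∀ χ ∈ R, n η χ ≤ 1) ∧ (R.filter fun χ => n η χ = 1).card = m ∧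
      (∀ χ ∈ N, n η⁻¹ χ * n η χ = 0) ∧ ∃ χ ∈ N, n η χ = 1 ∧ ∀ ψ ∈ N, ψ ≠ χ → n η ψ = 0 := by
    intro η hη
    refine mult_pattern R N (n η) (n η⁻¹) ν m (fun χ hχ => ?_) (fun χ _ => hν1 χ) ?_ ?_ ?_
    · rw [hn_inv, (Finset.mem_filter.1 hχ).2]
    · rw [hRN fun χ => n η χ * n η χ]; exact hsq η hη
    · have h1 := X.pair_eta (fun χ => indicator2 (χ : G → ℂ)) 1 ((e : ℂ) * h) (fun u => by
        rw [sum_indicator_mul (u : G)]; convert X.root_count hodd u using 4) hη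
      simp only [hn, hν] at h1
      rw [hsplit_n η hη] at h1
      have h2 : (ν st + ∑ χ ∈ P, ν χ + ∑ χ ∈ O, ν χ * n η χ : ℤ) = (e : ℤ) := by
        have : (h : ℂ)⁻¹ * ((e : ℂ) * h) = e := by field_simp
        rw [this] at h1
        exact_mod_cast h1
      have h3 : ∑ χ ∈ O, ν χ * n η χ = ∑ χ ∈ R, ν χ * n η χ := by
        rw [← Finset.sum_filter_add_sum_filter_not O (fun χ => irrConj χ = χ), ← hR,
          Finset.sum_eq_zero (s := O.filter fun χ => ¬ irrConj χ = χ) fun χ hχ => by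
            rw [hν0 χ (Finset.mem_filter.1 hχ).2, zero_mul], add_zero]
      have h4 : ∑ χ ∈ P, ν χ ≤ m := by
        refine (Finset.sum_le_sum fun χ _ => hν1 χ).trans ?_
        simp [hPm]
      have := hν1 st
      rw [h3] at h2
      omega
    · rw [hRN fun χ => n η⁻¹ χ * n η χ]
      refine hprod η η⁻¹ hη (hinv η hη) fun x hx => X.twist_ne_inv hodd hη x ?_
      rw [X.twist_inv] at hx
      nth_rewrite 2 [← hx]
      exact MonoidHom.ext fun u => (inv_inv _).symm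
  obtain ⟨η, hη⟩ := X.exists_eta
  have hηi : η⁻¹ ≠ 1 := hinv η hη
  obtain ⟨hR1, hRm, hN0, χη, hχηN, hχη1, hχη0⟩ := hpat η hη
  have hcN : ∀ χ ∈ N, irrConj χ ∈ N := fun χ hχ => by
    rw [hN, Finset.mem_filter] at hχ ⊢
    exact ⟨hconjO χ hχ.1, by rw [irrConj_irrConj]; exact Ne.symm hχ.2⟩
  have hcne : irrConj χη ≠ χη := (Finset.mem_filter.1 hχηN).2
  set B := R.filter fun χ => n η χ = 1 with hB
  -- the same real characters for every linear character
  have hsame : ∀ η', η' ≠ 1 → ∀ χ ∈ B, n η' χ = 1 := by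
    intro η' hη' χ hχ
    have hχR := Finset.mem_filter.1 hχ
    by_cases hx : ∃ x, X.twist x η' = η ∨ X.twist x η' = η⁻¹
    · obtain ⟨x, hx⟩ := hx
      have h1 := X.inner_twist χ x η'
      rw [hn, hn, Nat.cast_inj] at h1
      rcases hx with hx | hx <;> rw [← h1, hx]
      · exact hχR.2
      · rw [hn_inv, (Finset.mem_filter.1 hχR.1).2]; exact hχR.2
    push Not at hx
    have h1 := hprod η η' hη hη' fun x => (hx x).1
    have h2 := hprod η⁻¹ η' hηi hη' fun x => (hx x).2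
    obtain ⟨hR1', hRm', -, χ', hχ'N, hχ'1, hχ'0⟩ := hpat η' hη'
    rw [← hRN fun χ => n η' χ * n η χ, Finset.sum_eq_single_of_mem χη hχηN fun ψ hψ hne => by
      rw [hχη0 ψ hψ hne, mul_zero], hχη1, mul_one] at h1
    rw [← hRN fun χ => n η' χ * n η⁻¹ χ,
      Finset.sum_eq_single_of_mem (irrConj χη) (hcN _ hχηN) fun ψ hψ hne => by
        rw [hn_inv, hχη0 _ (hcN ψ hψ) fun e' => hne (by rw [← e', irrConj_irrConj]), mul_zero],
      hn_inv, irrConj_irrConj, hχη1, mul_one,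
      Finset.sum_congr rfl fun ψ hψ => by rw [hn_inv, (Finset.mem_filter.1 hψ).2]] at h2
    have h3 : n η' χη = 0 := by
      by_contra hne
      have e1 : χη = χ' := by_contra fun hne' => hne (hχ'0 χη hχηN hne')
      have h4 : n η' (irrConj χη) = 0 := hχ'0 _ (hcN _ hχηN) (e1 ▸ hcne)
      omega
    rw [h3, add_zero] at h1
    have h5 : ∑ ψ ∈ R, n η' ψ * n η ψ = ∑ ψ ∈ B, n η' ψ := by
      rw [hB, Finset.sum_filter (p := fun χ => n η χ = 1)]
      refine Finset.sum_congr rfl fun ψ hψ => ?_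
      split_ifs with h6
      · rw [h6, mul_one]
      · have := hR1 ψ hψ
        rw [show n η ψ = 0 by omega, mul_zero]
    rw [h5] at h1
    have hle : ∀ ψ ∈ B, n η' ψ ≤ 1 := fun ψ hψ => hR1' ψ (Finset.mem_filter.1 hψ).1
    refine (Finset.sum_eq_sum_iff_of_le hle).1 ?_ χ hχ
    rw [h1, Finset.sum_const, smul_eq_mul, mul_one, hB, hRm]
  have hBO : ∀ χ ∈ B, χ ∈ O := fun χ hχ => (Finset.mem_filter.1 (Finset.mem_filter.1 hχ).1).1
  have hηO : χη ∈ O := (Finset.mem_filter.1 hχηN).1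
  have hcop : ∀ χ ∈ B, ¬ p ∣ deg (χ : G → ℂ) := by
    intro χ hχ hd
    obtain ⟨t, ht⟩ := X.deg_mod hp hpg χ (fun η' => n η' χ) fun η' => hn η' χ
    have h0 : n 1 χ = 0 := by
      have h1 : classInner (fun u : H => (χ : G → ℂ) u) (fun u => (((1 : H →* ℂˣ) u : ℂˣ) : ℂ)) = 0 := by
        simp [classInner, (hOprop χ (hBO χ hχ)).1]
      rw [hn] at h1
      exact_mod_cast h1
    rw [← Finset.add_sum_erase _ _ (Finset.mem_univ (1 : H →* ℂˣ)), h0, zero_add,
      Finset.sum_congr rfl fun η' hη' => hsame η' (Finset.ne_of_mem_erase hη') χ hχ, Finset.sum_const, smul_eq_mul,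
      mul_one, Finset.card_erase_of_mem (Finset.mem_univ _), Finset.card_univ, ← Nat.card_eq_fintype_card] at ht
    rw [ht] at hd
    have h2 : p ∣ Nat.card (H →* ℂˣ) - 1 := (Nat.dvd_add_left (dvd_mul_right p t)).1 hd
    have h3 := Nat.dvd_sub hpa h2
    rw [show Nat.card (H →* ℂˣ) - (Nat.card (H →* ℂˣ) - 1) = 1 by omega] at h3
    exact hp.ne_one (Nat.dvd_one.1 h3)
  -- sums over the characters meeting the linear character
  have hOn : ∀ f : IrrCharacter G → ℂ, ∑ χ ∈ O, f χ * (n η χ : ℂ) = f χη + ∑ χ ∈ B, f χ := by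
    intro f
    rw [← Finset.sum_filter_add_sum_filter_not O (fun χ => irrConj χ = χ), ← hR, ← hN,
      Finset.sum_eq_single_of_mem χη hχηN fun ψ hψ hne => by rw [hχη0 ψ hψ hne, Nat.cast_zero, mul_zero],
      hχη1, Nat.cast_one, mul_one, add_comm]
    congr 1
    rw [hB, Finset.sum_filter (p := fun χ => n η χ = 1)]
    refine Finset.sum_congr rfl fun ψ hψ => ?_
    split_ifs with h6
    · rw [h6, Nat.cast_one, mul_one]
    · have := hR1 ψ hψ
      rw [show n η ψ = 0 by omega, Nat.cast_zero, mul_zero]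
  have hdeg : ∀ χ : IrrCharacter G, (χ : G → ℂ) 1 = deg (χ : G → ℂ) := fun χ => char_one_eq_deg (irr_isCharacter χ.2)
  have hG : (Nat.card G : ℂ) = ((h : ℂ) + 1) * h * e := by
    rw [Nat.card_eq_fintype_card, card_group X.toOddCtx]; push_cast; ring
  have hS : deg (χη : G → ℂ) + ∑ χ ∈ B, deg (χ : G → ℂ) = m * (h + 1) + 1 := by
    have h1 := X.pair_eta (fun χ => (χ : G → ℂ) 1) 0 (Nat.card G : ℂ) (fun u => by
      rw [regular_sum (u : G), zero_add]
      exact if_congr ⟨fun e' => Subtype.ext e', fun e' => by rw [e', OneMemClass.coe_one]⟩ rfl rfl) hη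
    simp only [hn] at h1
    rw [hsplit_n η hη, hstdeg, Finset.sum_congr rfl fun χ hχ => (hPv χ hχ).1, Finset.sum_const, nsmul_eq_mul, hPm,
      hOn, hG, show (h : ℂ)⁻¹ * (((h : ℂ) + 1) * h * e) = ((h : ℂ) + 1) * e by field_simp] at h1
    simp only [hdeg] at h1
    have h2 : ((h + m * (h + 1) + (deg (χη : G → ℂ) + ∑ χ ∈ B, deg (χ : G → ℂ)) : ℕ) : ℂ) =
        (((h + 1) * e : ℕ) : ℂ) := by push_cast; exact h1
    have h3 : h + m * (h + 1) + (deg (χη : G → ℂ) + ∑ χ ∈ B, deg (χ : G → ℂ)) = (h + 1) * e := by exact_mod_cast h2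
    rw [hem] at h3
    linarith
  obtain ⟨w, hw1, hww, hwfix, hwK⟩ := X.exists_invol hodd
  have hcex : ∀ χ : IrrCharacter G, ∃ z : ℤ, (χ : G → ℂ) w = z := fun χ =>
    char_involution_int (irr_isCharacter χ.2) (by rw [sq, hww])
  choose c hc using hcex
  have hc1 : c χη + ∑ χ ∈ B, c χ = 1 := by
    have h1 := X.pair_eta (fun χ => (χ : G → ℂ) w) 0 0 (fun u => X.sum_invol hodd hw1 hww u) hη
    simp only [hn] at h1
    rw [hsplit_n η hη, hstw w hwfix, Finset.sum_eq_zero fun χ hχ => (hPv χ hχ).2.2.1 w hwfix, hOn, add_zero,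
      mul_zero] at h1
    simp only [hc] at h1
    have h2 : ((c χη + ∑ χ ∈ B, c χ : ℤ) : ℂ) = ((1 : ℤ) : ℂ) := by push_cast; linear_combination h1
    exact_mod_cast h2
  have hc2 : (c χη : ℝ) ^ 2 / deg (χη : G → ℂ) + ∑ χ ∈ B, (c χ : ℝ) ^ 2 / deg (χ : G → ℂ) = 1 := by
    have h1 := X.pair_eta (fun χ => (χ : G → ℂ) w ^ 2 / (χ : G → ℂ) 1) 0 ((h : ℂ) + 1)
      (fun u => X.sum_invol_sq hodd hw1 hww hwK u) hη
    simp only [hn] at h1
    rw [hsplit_n η hη, hstw w hwfix, hstdeg,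
      Finset.sum_eq_zero fun χ hχ => by rw [(hPv χ hχ).2.2.1 w hwfix]; simp, hOn] at h1
    simp only [hc, hdeg] at h1
    have h2 : (((c χη : ℝ) ^ 2 / deg (χη : G → ℂ) + ∑ χ ∈ B, (c χ : ℝ) ^ 2 / deg (χ : G → ℂ) : ℝ) : ℂ) = 1 := by
      push_cast
      have : (h : ℂ)⁻¹ * ((h : ℂ) + 1) = 1 + (h : ℂ)⁻¹ := by field_simp
      rw [this, neg_one_sq, one_div, add_zero] at h1
      linear_combination h1
    exact_mod_cast h2
  have hDe := (hOprop χη hηO).2
  by_cases hall : ∀ χ ∈ B, c χ = 0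
  · rw [Finset.sum_eq_zero hall, add_zero] at hc1
    rw [Finset.sum_eq_zero fun χ hχ => by rw [hall χ hχ]; simp, add_zero, hc1, Int.cast_one, one_pow] at hc2
    have h1 : deg (χη : G → ℂ) = 1 := by
      rw [one_div, inv_eq_one] at hc2
      exact_mod_cast hc2
    rw [h1] at hDe
    have := Nat.le_of_dvd one_pos hDe
    have := X.ethree
    omega
  push Not at hall
  obtain ⟨χ₀, hχ₀, hc0⟩ := hall
  -- its degree is small
  obtain ⟨s, hs⟩ := (hOprop χ₀ (hBO χ₀ hχ₀)).2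
  have hsc : (s : ℤ) ∣ c χ₀ := by
    refine X.dvd_value hwK χ₀ (hc χ₀) hs ?_
    obtain ⟨k, hk⟩ := hpg.exists_card_eq
    rw [X.hcard] at hk
    rw [hk]
    exact Nat.Coprime.pow_left _ ((hp.coprime_iff_not_dvd).2 fun hd => hcop χ₀ hχ₀ (hs ▸ hd.mul_left e))
  have hd₀ : deg (χ₀ : G → ℂ) ≤ e * e := by
    have h1 : (c χ₀ : ℝ) ^ 2 / deg (χ₀ : G → ℂ) ≤ 1 := by
      rw [← hc2]
      refine le_add_of_nonneg_of_le (by positivity) ?_
      exact Finset.single_le_sum (f := fun χ : IrrCharacter G => (c χ : ℝ) ^ 2 / deg (χ : G → ℂ))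
        (fun χ _ => by positivity) hχ₀
    have hdp : (0 : ℝ) < deg (χ₀ : G → ℂ) := by exact_mod_cast deg_pos χ₀.2
    rw [div_le_one hdp] at h1
    have h2 : c χ₀ ^ 2 ≤ (deg (χ₀ : G → ℂ) : ℤ) := by exact_mod_cast h1
    obtain ⟨q, hq⟩ := hsc
    have hq0 : q ≠ 0 := fun h0 => hc0 (by rw [hq, h0, mul_zero])
    have h3 : (1 : ℤ) ≤ q ^ 2 := by
      have h4 : (0 : ℤ) < q ^ 2 := by positivity
      omega
    rw [hs] at h2 ⊢
    rw [hq, mul_pow, Nat.cast_mul] at h2
    have h4 : (s : ℤ) ^ 2 ≤ (e : ℤ) * s := le_trans (le_mul_of_one_le_right (by positivity) h3) h2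
    have h5 : s * s ≤ e * s := by rw [← sq]; exact_mod_cast h4
    rcases Nat.eq_zero_or_pos s with rfl | hs0
    · simp
    · exact Nat.mul_le_mul_left e (Nat.le_of_mul_le_mul_right h5 hs0)
  -- the sum of the squares
  have hQ : ∑ χ ∈ O, deg (χ : G → ℂ) ^ 2 + (1 + h ^ 2 + m * (h + 1) ^ 2) = (h + 1) * h * e := by
    have h1 := sum_sq_deg (G := G)
    rw [hG, hsplit, hstdeg, Finset.sum_congr rfl fun χ hχ => by rw [(hPv χ hχ).1], Finset.sum_const,
      nsmul_eq_mul, hPm] at h1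
    simp only [hdeg] at h1
    have h1' : ((deg (oneChar G : G → ℂ) : ℂ)) = 1 := by rw [← hdeg]; simp [oneChar]
    rw [h1'] at h1
    have h2 : ((∑ χ ∈ O, deg (χ : G → ℂ) ^ 2 + (1 + h ^ 2 + m * (h + 1) ^ 2) : ℕ) : ℂ) =
        (((h + 1) * h * e : ℕ) : ℂ) := by push_cast; linear_combination h1
    exact_mod_cast h2
  have hsub : deg (χη : G → ℂ) ^ 2 + (deg (irrConj χη : G → ℂ) ^ 2 + ∑ χ ∈ B, deg (χ : G → ℂ) ^ 2) ≤
      ∑ χ ∈ O, deg (χ : G → ℂ) ^ 2 := by
    have hBne : ∀ χ ∈ B, irrConj χ = χ := fun χ hχ => (Finset.mem_filter.1 (Finset.mem_filter.1 hχ).1).2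
    have hn1 : irrConj χη ∉ B := fun hm => hcne (((hBne _ hm).symm).trans (irrConj_irrConj χη))
    have hn2 : χη ∉ insert (irrConj χη) B := fun hm => by
      rcases Finset.mem_insert.1 hm with h0 | h0
      exacts [hcne h0.symm, hcne (hBne _ h0)]
    rw [← Finset.sum_insert (f := fun χ : IrrCharacter G => deg (χ : G → ℂ) ^ 2) hn1,
      ← Finset.sum_insert (f := fun χ : IrrCharacter G => deg (χ : G → ℂ) ^ 2) hn2]
    refine Finset.sum_le_sum_of_subset ?_
    rw [Finset.insert_subset_iff, Finset.insert_subset_iff]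
    exact ⟨hηO, hconjO _ hηO, hBO⟩
  have hdc : deg (irrConj χη : G → ℂ) = deg (χη : G → ℂ) := by
    have h1 := hdeg (irrConj χη)
    rw [irrConj_apply, hdeg χη, map_natCast] at h1
    exact_mod_cast h1.symm
  rw [hdc, ← Finset.add_sum_erase _ _ hχ₀] at hsub
  rw [← Finset.add_sum_erase _ _ hχ₀] at hS
  have hA := sq_sum_le_card_mul_sum_sq (s := B.erase χ₀) (f := fun χ : IrrCharacter G => deg (χ : G → ℂ))
  rw [Finset.card_erase_of_mem hχ₀, hB, hRm, ← hB, sq] at hA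
  refine numeric_contradiction (h := h) (D := deg (χη : G → ℂ)) hem hm0 hbound rfl (by rw [add_assoc]; exact hS)
    hd₀ hA ?_
  obtain ⟨j, rfl⟩ : ∃ j, h = j + 1 := ⟨h - 1, by have := X.two; omega⟩
  rw [hem] at hQ
  simp only [Nat.add_sub_cancel]
  nlinarith

end Ctx

end Cfsg.Agent.Lie.Feit
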