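import Cfsg.Agent.Lib.Lie.Feit.Coherent
import Cfsg.Agent.Lib.Lie.Feit.OddH
import Cfsg.Agent.S0878

/-!
The inequality between the degree and the order of an odd two-point stabiliser of a Zassenhaus group.
-/

set_option autoImplicit false
set_option linter.unusedSectionVars false
set_option linter.style.haveILetI false

namespace Cfsg.Agent.Lie.Feit

open MulAction Cfsg
open Cfsg.Agent.Lie.ZassenhausCount
open Cfsg.Agent.Char

universe u v

variable {G : Type u} {Ω : Type v} [Group G] [Finite G] [MulAction G Ω] [Fintype Ω]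

theorem kernel_orbit {a b : Ω} (hab : a ≠ b) {H : Subgroup G} (hle : H ≤ stabilizer G a)
    (hcard : Nat.card H + 1 = Fintype.card Ω) (honly : ∀ u ∈ H, u ≠ 1 → ∀ c : Ω, u • c = c → c = a) :
    ∀ c : Ω, c ≠ a → ∃! u : H, (u : G) • b = c := by
  classical
  haveI := Fintype.ofFinite H
  have hinj : ∀ u u' : H, (u : G) • b = (u' : G) • b → u = u' := by
    intro u u' h
    by_contra hne
    refine hab (honly _ ((u'⁻¹ * u : H)).2 (fun e => hne (inv_mul_eq_one.1 (Subtype.ext e)).symm) b ?_).symm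
    rw [Subgroup.coe_mul, mul_smul, h, Subgroup.coe_inv, inv_smul_smul]
  let ι : H → {c : Ω // c ≠ a} := fun u => ⟨(u : G) • b, fun h => hab
    (MulAction.injective (u : G) (h.trans (hle u.2).symm)).symm⟩
  have hι : Function.Bijective ι := (Fintype.bijective_iff_injective_and_card ι).2
    ⟨fun u u' h => hinj u u' (congrArg Subtype.val h), by
      rw [Fintype.card_subtype_compl, Fintype.card_subtype_eq, ← Nat.card_eq_fintype_card (α := H)]; omega⟩
  intro c hc
  obtain ⟨u, hu⟩ := hι.2 ⟨c, hc⟩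
  exact ⟨u, congrArg Subtype.val hu, fun u' hu' => hinj u' u (hu'.trans (congrArg Subtype.val hu).symm)⟩

theorem stab_dvd (h3 : Cfsg.Agent.Lie.Zassenhaus.ThreePoint G Ω) {a b : Ω} (hab : a ≠ b) :
    Nat.card ↥(stabilizer G a ⊓ stabilizer G b) ∣ Fintype.card Ω - 2 := by
  classical
  letI : MulAction ↥(stabilizer G a ⊓ stabilizer G b) {y : Ω // y ≠ a ∧ y ≠ b} :=
    { smul := fun g y => ⟨(g : G) • (y : Ω),
        fun h => y.2.1 (MulAction.injective (g : G) (h.trans g.2.1.symm)),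
        fun h => y.2.2 (MulAction.injective (g : G) (h.trans g.2.2.symm))⟩
      one_smul := fun y => Subtype.ext (one_smul G (y : Ω))
      mul_smul := fun g g' y => Subtype.ext (mul_smul (g : G) (g' : G) (y : Ω)) }
  have h1 := Cfsg.Agent.Perm.card_dvd_of_free (X := {y : Ω // y ≠ a ∧ y ≠ b})
    (A := ↥(stabilizer G a ⊓ stabilizer G b)) fun g y hy =>
    Subtype.ext (h3 g a b y hab (Ne.symm y.2.2) (Ne.symm y.2.1) g.2.1 g.2.2 (congrArg Subtype.val hy))
  rwa [Nat.card_eq_fintype_card (α := {y : Ω // y ≠ a ∧ y ≠ b}), Fintype.card_subtype,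
    show (Finset.univ.filter fun y : Ω => y ≠ a ∧ y ≠ b) = ({a, b} : Finset Ω)ᶜ by ext; simp,
    Finset.card_compl, Finset.card_pair hab] at h1

/-- A subgroup as large as the kernel with the same fixed point property is the kernel. -/
theorem kernel_unique (hZ : Cfsg.IsZassenhausGroup G Ω) {a b : Ω} (hab : a ≠ b) {H K : Subgroup G}
    (hle : H ≤ stabilizer G a) (hcard : Nat.card H + 1 = Fintype.card Ω)
    (honly : ∀ u ∈ H, u ≠ 1 → ∀ c : Ω, u • c = c → c = a) (hKle : K ≤ stabilizer G a)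
    (hKcard : Nat.card K + 1 = Fintype.card Ω) : K = H := by
  classical
  set A := stabilizer G a with hA
  set E := stabilizer G a ⊓ stabilizer G b with hE
  have horb := kernel_orbit hab hle hcard honly
  have hbij : Function.Bijective fun p : H × E => (⟨(p.1 : G) * p.2, mul_mem (hle p.1.2) p.2.2.1⟩ : A) := by
    refine ⟨fun p q hpq => ?_, fun g => ?_⟩
    · have h1 : (p.1 : G) * p.2 = q.1 * q.2 := congrArg Subtype.val hpq
      have h2 : (p.1 : G) • b = (q.1 : G) • b := by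
        have h3 := congrArg (· • b) h1
        simp only [mul_smul] at h3
        rwa [(p.2.2.2 : (p.2 : G) • b = b), (q.2.2.2 : (q.2 : G) • b = b)] at h3
      have hne : (q.1 : G) • b ≠ a := fun e =>
        hab (MulAction.injective (q.1 : G) (e.trans (hle q.1.2).symm)).symm
      obtain ⟨w, -, hw⟩ := horb _ hne
      have h4 : p.1 = q.1 := (hw p.1 h2).trans (hw q.1 rfl).symm
      rw [h4] at h1
      exact Prod.ext h4 (Subtype.ext (mul_left_cancel h1))
    · have hne : (g : G) • b ≠ a := fun e =>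
        hab (MulAction.injective (g : G) (e.trans (g.2 : (g : G) • a = a).symm)).symm
      obtain ⟨w, hw, -⟩ := horb _ hne
      refine ⟨(w, ⟨(w : G)⁻¹ * g, A.mul_mem (A.inv_mem (hle w.2)) g.2, ?_⟩), Subtype.ext (by simp)⟩
      show ((w : G)⁻¹ * g) • b = b
      rw [mul_smul, inv_smul_eq_iff, hw]
  have hAcard : Nat.card A = Nat.card H * Nat.card E := by
    rw [← Nat.card_prod]; exact (Nat.card_eq_of_bijective _ hbij).symm
  obtain ⟨-, hnorm⟩ := Cfsg.Agent.S0878.result hZ a H hle hcard honly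
  haveI : (H.subgroupOf A).Normal := Subgroup.normal_subgroupOf_of_le_normalizer (le_of_eq hnorm.symm)
  have hidx : (H.subgroupOf A).index = Nat.card E := by
    have h1 := Subgroup.card_mul_index (H.subgroupOf A)
    rw [Nat.card_congr (Subgroup.subgroupOfEquivOfLe hle).toEquiv, hAcard] at h1
    exact Nat.eq_of_mul_eq_mul_left Nat.card_pos h1
  have hdvd := stab_dvd hZ.2.2.1 hab
  rw [← hE] at hdvd
  obtain ⟨m, hm⟩ := hdvd
  refine Subgroup.eq_of_le_of_card_ge (fun x hx => ?_) (by omega)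
  have h1 : (QuotientGroup.mk' (H.subgroupOf A) ⟨x, hKle hx⟩) ^ Nat.card K = 1 := by
    rw [← map_pow, show (⟨x, hKle hx⟩ : A) ^ Nat.card K = 1 from Subtype.ext ?_, map_one]
    rw [SubmonoidClass.coe_pow, OneMemClass.coe_one]
    exact congrArg Subtype.val (pow_card_eq_one' (x := (⟨x, hx⟩ : K)))
  have h2 : (QuotientGroup.mk' (H.subgroupOf A) ⟨x, hKle hx⟩) ^ Nat.card E = 1 := by
    rw [← hidx, Subgroup.index_eq_card]; exact pow_card_eq_one'
  have hcop : Nat.Coprime (Nat.card K) (Nat.card E) := by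
    have hd : ∀ d, d ∣ Nat.card K → d ∣ Nat.card E → d = 1 := fun d h1 h2 => by
      have hpos : 0 < Nat.card K := Nat.card_pos
      have h3 : d ∣ Nat.card K - 1 := by
        rw [show Nat.card K - 1 = Fintype.card Ω - 2 by omega, hm]
        exact h2.mul_right m
      have h4 := Nat.dvd_sub h1 h3
      rw [show Nat.card K - (Nat.card K - 1) = 1 by omega] at h4
      exact Nat.dvd_one.1 h4
    exact hd _ (Nat.gcd_dvd_left _ _) (Nat.gcd_dvd_right _ _)
  have h3 := pow_gcd_eq_one.2 ⟨h1, h2⟩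
  rw [Nat.Coprime.gcd_eq_one hcop, pow_one, QuotientGroup.mk'_apply, QuotientGroup.eq_one_iff,
    Subgroup.mem_subgroupOf] at h3
  exact h3

/-- The kernel of a point stabiliser exists, inside any nontrivial normal subgroup. -/
theorem exists_kernel (hZ : Cfsg.IsZassenhausGroup G Ω) (N : Subgroup G) [N.Normal] (hN : N ≠ ⊥) {a b : Ω}
    (hab : a ≠ b) :
    ∃ K : Subgroup G, K ≤ N ∧ K ≤ stabilizer G a ∧ Nat.card K + 1 = Fintype.card Ω ∧
      ∀ u ∈ K, u ≠ 1 → ∀ c : Ω, u • c = c → c = a := by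
  classical
  have hN2 := Cfsg.Agent.Lie.Zassenhaus.normal_isZassenhaus hZ N hN
  obtain ⟨hF, h2, h3, hfix, -⟩ := hZ
  haveI := hF
  haveI := hN2.1
  obtain ⟨g, hg1, hga, hgb⟩ := Cfsg.Agent.Lie.Zassenhaus.exists_fix_pair hN2.2.1 hN2.2.2.2.1 hab
  obtain ⟨K, hKN, hKa, hKt, hKf, -⟩ := Cfsg.Agent.Lie.Zassenhaus.kernel_le h2 h3 hfix N hab g.2
    (fun e => hg1 (Subtype.ext e)) hga hgb
  haveI := Fintype.ofFinite K
  have hinj : ∀ k k' : K, (k : G) • b = (k' : G) • b → k = k' := fun k k' h => by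
    have h1 := hKf ((k'⁻¹ * k : K) : G) (k'⁻¹ * k : K).2
      (by rw [Subgroup.coe_mul, mul_smul, h, Subgroup.coe_inv, inv_smul_smul])
    exact (inv_mul_eq_one.1 (Subtype.ext h1)).symm
  let ι : K → {c : Ω // c ≠ a} := fun k => ⟨(k : G) • b, fun h => hab
    (MulAction.injective (k : G) (h.trans (hKa k k.2).symm)).symm⟩
  have hι : Function.Bijective ι := by
    refine ⟨fun k k' h => hinj k k' (congrArg Subtype.val h), fun c => ?_⟩
    obtain ⟨k, hk, hkc⟩ := hKt c c.2
    exact ⟨⟨k, hk⟩, Subtype.ext hkc⟩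
  refine ⟨K, hKN, hKa, ?_, fun u hu hu1 c hc => ?_⟩
  · rw [Nat.card_eq_of_bijective ι hι, Nat.card_eq_fintype_card, Fintype.card_subtype_compl,
      Fintype.card_subtype_eq]
    have := Fintype.card_pos_iff.2 ⟨a⟩
    omega
  · by_contra hca
    obtain ⟨k, hk, rfl⟩ := hKt c hca
    refine hu1 ?_
    have h1 := hKf (k⁻¹ * u * k) (mul_mem (mul_mem (inv_mem hk) hu) hk)
      (by rw [mul_smul, mul_smul, hc, inv_smul_smul])
    rwa [show k⁻¹ * u * k = k⁻¹ * u * k⁻¹⁻¹ by group, conj_eq_one_iff] at h1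

/-- A minimal normal subgroup of a Zassenhaus group is simple. -/
theorem exists_simple_normal (hZ : Cfsg.IsZassenhausGroup G Ω) :
    ∃ N : Subgroup G, N.Normal ∧ N ≠ ⊥ ∧ IsSimpleGroup N := by
  classical
  obtain ⟨g₀, hg₀, x₀, y₀, hxy, -⟩ := hZ.2.2.2.1
  have hne : ({N : Subgroup G | N.Normal ∧ N ≠ ⊥} : Set (Subgroup G)).Nonempty :=
    ⟨⊤, inferInstance, fun e => hg₀ (by
      have h := Subgroup.mem_top g₀
      rw [e, Subgroup.mem_bot] at h
      exact h)⟩
  obtain ⟨N, hNmin⟩ := (Set.toFinite _).exists_minimal hne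
  obtain ⟨hNn, hNb⟩ := hNmin.prop
  refine ⟨N, hNn, hNb, ?_⟩
  haveI := hNn
  have hN2 := Cfsg.Agent.Lie.Zassenhaus.normal_isZassenhaus hZ N hNb
  obtain ⟨hNF, hN22, hN23, hNfix, hNreg⟩ := hN2
  haveI := hNF
  haveI : Nontrivial N := (Subgroup.nontrivial_iff_ne_bot N).2 hNb
  haveI : IsPreprimitive N Ω := isPreprimitive_of_is_two_pretransitive hN22
  refine ⟨fun M hM => or_iff_not_imp_left.2 fun hMb => ?_⟩
  have hne' : ({M' : Subgroup N | M'.Normal ∧ M' ≠ ⊥ ∧ M' ≤ M} : Set (Subgroup N)).Nonempty :=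
    ⟨M, hM, hMb, le_rfl⟩
  obtain ⟨M₀, hM₀⟩ := (Set.toFinite _).exists_minimal hne'
  obtain ⟨hM₀n, hM₀b, hM₀M⟩ := hM₀.prop
  haveI := hM₀n
  haveI hM₀t : IsPretransitive M₀ Ω := Cfsg.Agent.Perm.normal_isPretransitive M₀ hM₀b
  -- invariant under the whole group
  have hconj : ∀ s : G, ∀ u : N, u ∈ M₀ → (⟨s * u * s⁻¹, hNn.conj_mem _ u.2 s⟩ : N) ∈ M₀ := by
    intro s u hu
    let φ : N →* N := (MulAut.conjNormal (H := N) s).toMonoidHom
    haveI hM'n : (M₀.map φ).Normal := hM₀n.map φ (MulAut.conjNormal s).surjective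
    have hM'b : M₀.map φ ≠ ⊥ := fun e => hM₀b
      ((Subgroup.map_eq_bot_iff_of_injective _ (MulAut.conjNormal (H := N) s).injective).1 e)
    haveI hM't : IsPretransitive (M₀.map φ) Ω := Cfsg.Agent.Perm.normal_isPretransitive _ hM'b
    by_cases h0 : M₀ ⊓ M₀.map φ = ⊥
    · exfalso
      obtain ⟨c, hc⟩ := hNreg M₀ hM₀n hM₀t
      refine hc ((Subgroup.eq_bot_iff_forall _).2 ?_)
      rintro ⟨x, hx⟩ hxc
      refine Subtype.ext (eq_of_smul_eq_smul fun d : Ω => ?_)
      obtain ⟨⟨y, hy⟩, rfl⟩ := exists_smul_eq (M₀.map φ) c d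
      have hxy : Commute x y := Subgroup.commute_of_normal_of_disjoint M₀ (M₀.map φ) hM₀n hM'n
        (disjoint_iff.2 h0) x y hx hy
      show x • y • c = (1 : N) • y • c
      rw [one_smul, smul_smul, hxy.eq, mul_smul, show x • c = c from hxc]
    · have hmin := hM₀.eq_of_le ⟨inferInstance, h0, inf_le_left.trans hM₀M⟩ inf_le_left
      have hle : M₀ ≤ M₀.map φ := inf_eq_left.1 hmin
      have heq : M₀ = M₀.map φ := Subgroup.eq_of_le_of_card_ge hle
        (le_of_eq (Subgroup.card_map_of_injective (MulAut.conjNormal (H := N) s).injective))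
      rw [heq]
      exact ⟨u, hu, Subtype.ext (MulAut.conjNormal_apply s u)⟩
  haveI hMG : (M₀.map N.subtype).Normal := ⟨by
    rintro _ ⟨u, hu, rfl⟩ s
    exact ⟨_, hconj s u hu, rfl⟩⟩
  have h1 : M₀.map N.subtype = N := (hNmin.eq_of_le ⟨hMG, fun e => hM₀b
    ((Subgroup.map_eq_bot_iff_of_injective _ (Subgroup.subtype_injective N)).1 e)⟩ (Subgroup.map_subtype_le _))
  rw [eq_top_iff]
  intro x _
  refine hM₀M ?_
  obtain ⟨y, hy, hyx⟩ := (h1.symm ▸ x.2 : (x : G) ∈ M₀.map N.subtype)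
  rwa [show x = y from Subtype.ext hyx.symm]

/-- Feit's inequality for a simple Zassenhaus group with odd two-point stabiliser. -/
theorem simple_case [FaithfulSMul G Ω] [IsSimpleGroup G] (hZ : Cfsg.IsZassenhausGroup G Ω) {a b : Ω}
    (hab : a ≠ b) {h e : ℕ} (hh : Fintype.card Ω = h + 1)
    (he : Nat.card ↥(stabilizer G a ⊓ stabilizer G b) = e) (hodd : Odd e) (hbig : 2 * e < h - 1) {H : Subgroup G}
    (hle : H ≤ stabilizer G a) (hcard : Nat.card H = h) (honly : ∀ u ∈ H, u ≠ 1 → ∀ c : Ω, u • c = c → c = a) :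
    IsPGroup 2 H ∧ (∃ u v : H, u * v ≠ v * u) ∧ (commutator H).index ≤ 4 * e ^ 2 + 1 := by
  classical
  haveI : Fintype G := Fintype.ofFinite G
  obtain ⟨hF, h2, h3, hfix, -⟩ := id hZ
  have C := oddCtx h2 h3 hfix hab hh he hodd
  have X : Ctx G Ω H a b h e := { C with hle := hle, hcard := hcard, honly := honly, big := hbig }
  haveI := X.normalK
  haveI := Fintype.ofFinite ↥(stabilizer G a)
  haveI := Fintype.ofFinite (H.subgroupOf (stabilizer G a))
  haveI := Fintype.ofFinite H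
  set K := H.subgroupOf (stabilizer G a) with hK
  rcases feit_coherence_core K X.K_ne_bot X.K_ne_top X.centralizerK
      (by rw [hK, X.cardK, X.indexK]; have := C.ethree; omega) (indFun (stabilizer G a)) X.isometry
      (fun α hα => by rw [indFun_one, hα.2 1 (by simp), mul_zero]) with hcoh | ⟨p, hp, ⟨m, hm⟩, hnc, hidx⟩
  · exact (X.false_of_coherent hcoh).elim
  have eKH : K ≃* H := Subgroup.subgroupOfEquivOfLe hle
  haveI := Fact.mk hp
  have hpg : IsPGroup p H := IsPGroup.of_card (n := m) (by rw [← Nat.card_congr eKH.toEquiv]; exact hm)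
  have hncH : ¬ IsMulCommutative H := fun hc => hnc ⟨⟨fun x y => eKH.injective (by
    rw [map_mul, map_mul]; exact hc.is_comm.comm (eKH x) (eKH y))⟩⟩
  rcases hp.eq_two_or_odd' with rfl | hp2
  · refine ⟨hpg, ?_, ?_⟩
    · by_contra hcon
      push Not at hcon
      exact hncH ⟨⟨hcon⟩⟩
    · have h1 : (⁅K, K⁆.subgroupOf K) = commutator K := by
        rw [← Subgroup.map_subtype_commutator]
        exact Subgroup.comap_map_eq_self_of_injective (Subgroup.subtype_injective K) _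
      rw [h1, ← card_hom_units, Nat.card_congr eKH.monoidHomCongrLeftEquiv, card_hom_units] at hidx
      rwa [show K.index = e from X.indexK] at hidx
  · refine (X.false_of_odd_pgroup ?_ hp hpg hncH).elim
    have h1 : h = p ^ m := by rw [← hcard, ← Nat.card_congr eKH.toEquiv]; exact hm
    rw [h1]
    exact hp2.pow

/-- Feit's inequality. -/
theorem feit_inequality (hZ : Cfsg.IsZassenhausGroup G Ω) {a b : Ω} (hab : a ≠ b) {h e : ℕ}
    (hh : Fintype.card Ω = h + 1) (he : Nat.card ↥(stabilizer G a ⊓ stabilizer G b) = e) (hodd : Odd e)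
    {H : Subgroup G} (hle : H ≤ stabilizer G a) (hcard : Nat.card H + 1 = Fintype.card Ω)
    (honly : ∀ u ∈ H, u ≠ 1 → ∀ c : Ω, u • c = c → c = a) :
    h - 1 ≤ 2 * e ∨ (IsPGroup 2 H ∧ (∃ u v : H, u * v ≠ v * u) ∧ (commutator H).index ≤ 4 * e ^ 2 + 1) := by
  classical
  refine or_iff_not_imp_left.2 fun hbig => ?_
  obtain ⟨N, hNn, hNb, hNs⟩ := exists_simple_normal hZ
  haveI := hNn
  haveI := hNs
  have hN2 := Cfsg.Agent.Lie.Zassenhaus.normal_isZassenhaus hZ N hNb
  haveI := hN2.1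
  obtain ⟨K, hKN, hKle, hKcard, hKonly⟩ := exists_kernel hZ N hNb hab
  obtain rfl := kernel_unique hZ hab hle hcard honly hKle hKcard
  have hdvd : Nat.card ↥(stabilizer N a ⊓ stabilizer N b) ∣ e := by
    rw [← he]
    refine Subgroup.card_dvd_of_injective
      (((N.subtype.comp (stabilizer N a ⊓ stabilizer N b).subtype)).codRestrict _
        fun x => (⟨x.2.1, x.2.2⟩ : ((x : N) : G) ∈ stabilizer G a ⊓ stabilizer G b)) fun x y hxy => ?_
    exact Subtype.ext (Subtype.ext (congrArg Subtype.val hxy :))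
  have hle' := Nat.le_of_dvd (by obtain ⟨j, rfl⟩ := hodd; omega) hdvd
  have eHN : K.subgroupOf N ≃* K := Subgroup.subgroupOfEquivOfLe hKN
  obtain ⟨h1, ⟨u, v, huv⟩, h3⟩ := simple_case hN2 hab hh rfl (hodd.of_dvd_nat hdvd) (by omega)
    (H := K.subgroupOf N) (fun x hx => hle (Subgroup.mem_subgroupOf.1 hx))
    (by rw [Nat.card_congr eHN.toEquiv]; omega)
    (fun x hx hx1 c hc => honly _ (Subgroup.mem_subgroupOf.1 hx) (fun e' => hx1 (Subtype.ext e')) c hc)
  refine ⟨IsPGroup.of_equiv h1 eHN, ⟨eHN u, eHN v, ?_⟩, ?_⟩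
  · rw [← map_mul, ← map_mul]
    exact fun e' => huv (eHN.injective e')
  · rw [← card_hom_units, Nat.card_congr eHN.monoidHomCongrLeftEquiv, card_hom_units] at h3
    refine h3.trans ?_
    gcongr

end Cfsg.Agent.Lie.Feit
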