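import Cfsg.Agent.Lib.Lie.Feit.Isometry

/-!
The point stabiliser cannot be coherent when the two-point stabiliser is small and of odd order.
-/

set_option autoImplicit false
set_option linter.unusedSectionVars false
set_option linter.style.haveILetI false

namespace Cfsg.Agent.Lie.Feit

open MulAction Cfsg
open Cfsg.Agent.Lie.ZassenhausCount
open Cfsg.Agent.Char
open scoped ComplexConjugate

universe u v

variable {G : Type u} {Ω : Type v} [Group G] [MulAction G Ω] [Fintype Ω] [FaithfulSMul G Ω] [Fintype G]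
  [IsSimpleGroup G] {H : Subgroup G} {a b : Ω} {h e : ℕ}

namespace Ctx

variable (X : Ctx G Ω H a b h e) [Fintype ↥(stabilizer G a)]
include X

theorem mem_chSet_iff (χ : IrrCharacter ↥(stabilizer G a)) :
    (χ : ↥(stabilizer G a) → ℂ) ∈ chSet (H.subgroupOf (stabilizer G a)) ⊥ ↔
      ∃ k ∈ H.subgroupOf (stabilizer G a), (χ : ↥(stabilizer G a) → ℂ) k ≠ (χ : ↥(stabilizer G a) → ℂ) 1 :=
  ⟨fun h => h.2.1, fun h => ⟨χ.2, h, fun d hd => by rw [Subgroup.mem_bot.1 hd]⟩⟩

/-- The classes of the group are at least as many as the exceptional characters and `e + 1` more. -/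
theorem card_classes : e + 1 + (chFin (H.subgroupOf (stabilizer G a)) ⊥).card ≤ Nat.card (ConjClasses G) := by
  classical
  haveI : Fintype (ConjClasses G) := Fintype.ofFinite _
  haveI : Fintype (ConjClasses ↥(stabilizer G a)) := Fintype.ofFinite _
  set S := chFin (H.subgroupOf (stabilizer G a)) ⊥ with hS
  -- classes of the stabiliser inside the kernel
  set IN := (Finset.univ.filter fun c : ConjClasses (stabilizer G a) => ∀ g : (stabilizer G a), ConjClasses.mk g = c → (g : G) ∈ H) with hIN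
  have hmem : ∀ g : (stabilizer G a), (g : G) ∈ H → ConjClasses.mk g ∈ IN := fun g hg => by
    rw [hIN, Finset.mem_filter]
    refine ⟨Finset.mem_univ _, fun g' hg' => ?_⟩
    obtain ⟨k, rfl⟩ := isConj_iff.1 (ConjClasses.mk_eq_mk_iff_isConj.1 hg'.symm)
    exact X.conj_mem k.2 hg
  have hout : (Finset.univ \ IN).card ≤ e - 1 := by
    haveI := Fintype.ofFinite ↥(stabilizer G a ⊓ stabilizer G b)
    calc (Finset.univ \ IN).card
        ≤ ((Finset.univ : Finset ↥(stabilizer G a ⊓ stabilizer G b)).erase 1 |>.image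
            fun x : ↥(stabilizer G a ⊓ stabilizer G b) =>
              ConjClasses.mk (⟨(x : G), x.2.1⟩ : ↥(stabilizer G a))).card := by
          refine Finset.card_le_card fun c hc => ?_
          obtain ⟨g, rfl⟩ := ConjClasses.mk_surjective c
          rw [Finset.mem_sdiff] at hc
          rcases X.cases_mem g.2 with hH | ⟨k, hk, x, hx, hx1, hgk⟩
          · exact absurd (hmem g hH) hc.2
          · refine Finset.mem_image.2 ⟨⟨x, hx⟩, Finset.mem_erase.2 ⟨fun e => hx1 (congrArg Subtype.val e),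
              Finset.mem_univ _⟩, ConjClasses.mk_eq_mk_iff_isConj.2 (isConj_iff.2 ⟨⟨k, X.hle hk⟩, ?_⟩)⟩
            exact Subtype.ext hgk.symm
      _ ≤ _ := Finset.card_image_le.trans (by
          rw [Finset.card_erase_of_mem (Finset.mem_univ _), Finset.card_univ, ← Nat.card_eq_fintype_card,
            X.ecard])
  have hirr : e + S.card ≤ Fintype.card (ConjClasses (stabilizer G a)) := by
    rw [← Nat.card_eq_fintype_card, ← card_irr, Nat.card_eq_fintype_card]
    let L := {l : (stabilizer G a) →* ℂˣ // ∀ u : (stabilizer G a), (u : G) ∈ H → l u = 1}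
    haveI : Finite L := Nat.finite_of_card_ne_zero (by rw [X.card_lin]; have := X.e_pos; omega)
    haveI : Fintype L := Fintype.ofFinite L
    let ι : L ⊕ {χ // χ ∈ S} → IrrCharacter (stabilizer G a) := fun s => match s with
      | Sum.inl l => ⟨_, isIrrCharacter_linear l.1⟩
      | Sum.inr χ => ⟨χ.1, (mem_chFin.1 χ.2).1⟩
    have hι : Function.Injective ι := by
      have hmix : ∀ (l : L) (χ : {χ // χ ∈ S}), (fun g => ((l.1 g : ℂˣ) : ℂ)) ≠ χ.1 := by
        intro l χ e
        obtain ⟨k, hk, hne⟩ := (mem_chFin.1 χ.2).2.1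
        apply hne
        rw [← e]
        simp only [map_one]
        rw [l.2 k (Subgroup.mem_subgroupOf.1 hk)]
      rintro (l | χ) (l' | χ') e <;> have e' := congrArg Subtype.val e
      · exact congrArg Sum.inl (Subtype.ext (MonoidHom.ext fun g => Units.ext (congrFun e' g)))
      · exact absurd e' (hmix l χ')
      · exact absurd e'.symm (hmix l' χ)
      · exact congrArg Sum.inr (Subtype.ext e')
    have := Fintype.card_le_of_injective ι hι
    rwa [Fintype.card_sum, Fintype.card_coe, ← Nat.card_eq_fintype_card (α := L), X.card_lin] at this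
  have hin : S.card + 1 ≤ IN.card := by
    have h1 := Finset.card_sdiff_add_card_eq_card (Finset.subset_univ IN)
    rw [Finset.card_univ] at h1
    have := X.e_pos
    omega
  -- to classes of the whole group
  have hmap : IN.card + Nat.card {c : ConjClasses G // ∀ g : G, ConjClasses.mk g = c → g ∉ (H : Set G)} ≤
      Nat.card (ConjClasses G) := by
    rw [Nat.card_eq_fintype_card, Nat.card_eq_fintype_card, Fintype.card_subtype]
    rw [← Finset.card_image_of_injOn (s := IN) (f := ConjClasses.map (stabilizer G a).subtype) ?_,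
      ← Finset.card_union_of_disjoint]
    · exact Finset.card_le_univ _
    · rw [Finset.disjoint_left]
      intro c hc hc'
      obtain ⟨c₀, hc₀, rfl⟩ := Finset.mem_image.1 hc
      obtain ⟨g, rfl⟩ := ConjClasses.mk_surjective c₀
      rw [Finset.mem_filter] at hc₀ hc'
      exact hc'.2 g rfl (hc₀.2 g rfl)
    · intro c hc c' hc' he
      obtain ⟨g, rfl⟩ := ConjClasses.mk_surjective c
      obtain ⟨g', rfl⟩ := ConjClasses.mk_surjective c'
      have hg := (Finset.mem_filter.1 hc).2 g rfl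
      have hg' := (Finset.mem_filter.1 hc').2 g' rfl
      obtain ⟨k, hk⟩ := isConj_iff.1 (ConjClasses.mk_eq_mk_iff_isConj.1 he)
      change k * (g : G) * k⁻¹ = g' at hk
      by_cases hg1 : (g : G) = 1
      · rw [hg1, mul_one, mul_inv_cancel] at hk
        rw [show g = g' from Subtype.ext (hg1.trans hk)]
      · refine ConjClasses.mk_eq_mk_iff_isConj.2 (isConj_iff.2 ⟨⟨k, X.fusion hg hg1 (hk ▸ hg')⟩, ?_⟩)
        exact Subtype.ext hk
  have hav := ZassenhausClasses.classes_avoiding X.toOddCtx X.big (H : Set G) fun g hg => ?_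
  · omega
  by_cases h1 : g = 1
  · exact Or.inl h1
  · refine Or.inr (Finset.card_eq_one.2 ⟨a, Finset.ext fun c => ?_⟩)
    rw [Finset.mem_filter, Finset.mem_singleton]
    exact ⟨fun hc => X.honly g hg h1 c hc.2, fun hc => ⟨Finset.mem_univ _, hc ▸ X.hle hg⟩⟩

variable [Fintype H]

set_option maxHeartbeats 1000000 in
theorem false_of_coherent
    (hcoh : IsCoherent (chSet (H.subgroupOf (stabilizer G a)) ⊥) {1}ᶜ (indFun (stabilizer G a))) : False := by
  classical
  haveI := X.normalK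
  haveI := Fintype.ofFinite (H.subgroupOf (stabilizer G a))
  set K := H.subgroupOf (stabilizer G a) with hK
  obtain ⟨⟨α₀, hα₀, hα₀ne⟩, τ₁, hτ₁, hext⟩ := hcoh
  set S := chFin K ⊥ with hS
  have hSirr : ∀ χ ∈ chSet K ⊥, IsIrrCharacter (stabilizer G a) χ := fun χ h => h.1
  have htwo : ∃ χ ∈ chSet K ⊥, ∃ ψ ∈ chSet K ⊥, χ ≠ ψ := by
    by_contra hcon
    push Not at hcon
    rcases Set.eq_empty_or_nonempty (chSet K ⊥) with h0 | ⟨χ, hχ⟩
    · apply hα₀ne
      have h1 := hα₀.1
      rw [h0] at h1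
      change α₀ ∈ Submodule.span ℤ _ at h1
      rwa [Submodule.span_empty, Submodule.mem_bot] at h1
    · have h1 := hα₀.1
      change α₀ ∈ Submodule.span ℤ _ at h1
      rw [show chSet K ⊥ = {χ} from Set.eq_singleton_iff_unique_mem.2 ⟨hχ, fun ψ hψ => hcon ψ hψ χ hχ⟩,
        Submodule.mem_span_singleton] at h1
      obtain ⟨n, rfl⟩ := h1
      have h2 := hα₀.2 1 (by simp)
      rw [Pi.smul_apply, smul_eq_zero] at h2
      rcases h2 with rfl | h2
      · exact hα₀ne (zero_smul ℤ χ)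
      · rw [char_one_eq_deg (irr_isCharacter hχ.1)] at h2
        exact (deg_pos hχ.1).ne' (by exact_mod_cast h2)
  have hzo : ∀ α ∈ zspan (chSet K ⊥), α 1 = 0 → α ∈ zspanOn (chSet K ⊥) ({1}ᶜ : Set (stabilizer G a)) := fun α hα h1 =>
    ⟨hα, fun x hx => by rw [Set.notMem_compl_iff, Set.mem_singleton_iff] at hx; rw [hx, h1]⟩
  obtain ⟨ε, hε, himg, hinj⟩ := coherent_extension_sign _ hSirr htwo τ₁ hτ₁ (fun α hα h1 => by
    rw [hext α (hzo α hα h1), indFun_one, h1, mul_zero])
  have hε2 : ε * ε = 1 := by rcases hε with rfl | rfl <;> simp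
  let T : {χ // χ ∈ S} → IrrCharacter G := fun θ => ⟨ε • τ₁ θ.1, himg θ.1 (mem_chFin.1 θ.2)⟩
  have hTinj : Function.Injective T := fun θ θ' e => by
    refine Subtype.ext (hinj _ (mem_chFin.1 θ.2) _ (mem_chFin.1 θ'.2) ?_)
    have h1 := congrArg (fun f : IrrCharacter G => ε • (f : G → ℂ)) e
    simpa [T, smul_smul, hε2] using h1
  -- the differences
  let δ : {χ // χ ∈ S} → {χ // χ ∈ S} → ((stabilizer G a) → ℂ) := fun θ θ₀ =>
    (deg θ₀.1 : ℂ) • θ.1 - (deg θ.1 : ℂ) • θ₀.1
  have hd1 : ∀ θ : {χ // χ ∈ S}, θ.1 1 = (deg θ.1 : ℂ) := fun θ => char_one_eq_deg (irr_isCharacter (mem_chFin.1 θ.2).1)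
  have hδ : ∀ θ θ₀, δ θ θ₀ ∈ zspan (chSet K ⊥) ∧ δ θ θ₀ 1 = 0 ∧
      indFun (stabilizer G a) (δ θ θ₀) = (ε * deg θ₀.1) • (T θ : G → ℂ) - (ε * deg θ.1) • (T θ₀ : G → ℂ) := by
    intro θ θ₀
    have e1 : δ θ θ₀ = (deg θ₀.1 : ℤ) • θ.1 - (deg θ.1 : ℤ) • θ₀.1 := by
      simp only [δ, ← Int.cast_smul_eq_zsmul ℂ, Int.cast_natCast]
    have hm : ∀ θ : {χ // χ ∈ S}, θ.1 ∈ zspan (chSet K ⊥) := fun θ => mem_zspan_of_mem (mem_chFin.1 θ.2)
    have hmem : δ θ θ₀ ∈ zspan (chSet K ⊥) := by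
      rw [e1]
      exact Submodule.sub_mem _ (Submodule.smul_mem _ _ (hm θ)) (Submodule.smul_mem _ _ (hm θ₀))
    have h1 : δ θ θ₀ 1 = 0 := by simp [δ, hd1]; ring
    refine ⟨hmem, h1, ?_⟩
    rw [← hext _ (hzo _ hmem h1), e1, isometryOn_sub hτ₁ (Submodule.smul_mem _ _ (hm θ)) (Submodule.smul_mem _ _ (hm θ₀)),
      hτ₁.2.1 _ (hm θ), hτ₁.2.1 _ (hm θ₀)]
    funext g
    simp only [T, Pi.sub_apply, Pi.smul_apply, smul_eq_mul, ← Int.cast_smul_eq_zsmul ℂ, Int.cast_natCast]
    linear_combination ((deg θ.1 : ℂ) * τ₁ θ₀.1 g - (deg θ₀.1 : ℂ) * τ₁ θ.1 g) * hε2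
  clear_value T
  have hfrob : ∀ (θ θ₀ : {χ // χ ∈ S}) (ψ : IrrCharacter G),
      classInner (δ θ θ₀) (fun g : (stabilizer G a) => (ψ : G → ℂ) g) =
        (ε * deg θ₀.1) * (if T θ = ψ then 1 else 0) - (ε * deg θ.1) * (if T θ₀ = ψ then 1 else 0) := by
    intro θ θ₀ ψ
    rw [← frobenius (stabilizer G a) _ (isClassFunction_character (irr_isCharacter ψ.2)), (hδ θ θ₀).2.2, classInner_sub_left,
      classInner_smul_left, classInner_smul_left, irrC_orth, irrC_orth]
  -- the degrees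
  have hdegT : ∀ θ θ₀, deg θ₀.1 * deg (T θ : G → ℂ) = deg θ.1 * deg (T θ₀ : G → ℂ) := by
    intro θ θ₀
    have h1 : indFun (stabilizer G a) (δ θ θ₀) 1 = 0 := by rw [indFun_one, (hδ θ θ₀).2.1, mul_zero]
    rw [(hδ θ θ₀).2.2] at h1
    simp only [Pi.sub_apply, Pi.smul_apply, smul_eq_mul, char_one_eq_deg (irr_isCharacter (Subtype.prop _))] at h1
    have h2 : ε * (((deg θ₀.1 * deg (T θ : G → ℂ) : ℕ) : ℂ) - ((deg θ.1 * deg (T θ₀ : G → ℂ) : ℕ) : ℂ)) = 0 := by
      push_cast; linear_combination h1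
    rcases mul_eq_zero.1 h2 with h3 | h3
    · rw [h3, mul_zero] at hε2; exact absurd hε2 zero_ne_one
    · exact_mod_cast sub_eq_zero.1 h3
  -- a character outside the image is constant on the kernel
  obtain ⟨θa, hθa, θb, hθb, hab'⟩ := htwo
  have hconst : ∀ ψ : IrrCharacter G, ψ ∉ Finset.univ.image T →
      ∃ κ : ℂ, ∀ u ∈ H, u ≠ 1 → (ψ : G → ℂ) u = κ := by
    intro ψ hψ
    set F : (stabilizer G a) → ℂ := fun g => (ψ : G → ℂ) g with hF
    have hFc : IsCharacter (stabilizer G a) F := isCharacter_comp (stabilizer G a).subtype (irr_isCharacter ψ.2)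
    let θ₀ : {χ // χ ∈ S} := ⟨θa, mem_chFin.2 hθa⟩
    obtain ⟨z, hz⟩ := classInner_natCast hFc (irr_isCharacter (mem_chFin.1 θ₀.2).1)
    obtain ⟨c, hc⟩ := value_on_kernel K X.centralizerK (F := F) ⟨F, 0, hFc, isCharacter_zero, (sub_zero F).symm⟩
      (fun _ => 0) ((z : ℂ) / deg θ₀.1) fun χ hχ => by
        let θ : {χ // χ ∈ S} := ⟨χ, mem_chFin.2 ((X.mem_chSet_iff χ).2 hχ)⟩
        have h1 := hfrob θ θ₀ ψ
        rw [if_neg fun e : T θ = ψ => hψ (e ▸ Finset.mem_image_of_mem _ (Finset.mem_univ _)),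
          if_neg fun e : T θ₀ = ψ => hψ (e ▸ Finset.mem_image_of_mem _ (Finset.mem_univ _)), mul_zero, mul_zero,
          sub_zero, classInner_sub_left, classInner_smul_left, classInner_smul_left, sub_eq_zero] at h1
        obtain ⟨z', hz'⟩ := classInner_natCast hFc (irr_isCharacter χ.2)
        have e1 : classInner (χ : (stabilizer G a) → ℂ) F = (z' : ℂ) := by rw [← classInner_symm, hz', map_natCast]
        have e2 : classInner θ₀.1 F = (z : ℂ) := by rw [← classInner_symm, hz, map_natCast]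
        change (deg θ₀.1 : ℂ) * classInner (χ : (stabilizer G a) → ℂ) F = (deg θ.1 : ℂ) * classInner θ₀.1 F at h1
        rw [e1, e2] at h1
        have hd0 : (deg θ₀.1 : ℂ) ≠ 0 := Nat.cast_ne_zero.2 (deg_pos (mem_chFin.1 θ₀.2).1).ne'
        rw [hz', zero_add, show (χ : (stabilizer G a) → ℂ) 1 = (deg θ.1 : ℂ) from hd1 θ]
        field_simp
        linear_combination h1
    refine ⟨- ((z : ℂ) / deg θ₀.1) * (K.index : ℂ) + c, fun u hu hu1 => ?_⟩
    have := hc ⟨u, X.hle hu⟩ (Subgroup.mem_subgroupOf.2 hu) (fun e => hu1 (congrArg Subtype.val e))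
    simpa [hF, sub_eq_add_neg] using this
  have hnot : ∀ ψ : IrrCharacter G, (∃ κ : ℂ, ∀ u ∈ H, u ≠ 1 → (ψ : G → ℂ) u = κ) → ψ ∉ Finset.univ.image T := by
    rintro ψ ⟨κ, hκ⟩ hψ
    obtain ⟨θ, -, rfl⟩ := Finset.mem_image.1 hψ
    obtain ⟨θ', hne⟩ : ∃ θ' : {χ // χ ∈ S}, θ' ≠ θ := by
      by_cases h1 : θa = θ.1
      · exact ⟨⟨θb, mem_chFin.2 hθb⟩, fun e => hab' (h1.trans (congrArg Subtype.val e).symm)⟩
      · exact ⟨⟨θa, mem_chFin.2 hθa⟩, fun e => h1 (congrArg Subtype.val e)⟩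
    have h1 := hfrob θ θ' (T θ)
    obtain ⟨-, -, hv, hsum⟩ := X.zspan_props (hδ θ θ').1
    rw [if_pos rfl, if_neg fun e => hne (hTinj e), mul_one, mul_zero, sub_zero, classInner,
      Finset.sum_congr rfl (g := fun g => δ θ θ' g * conj κ) (fun g _ => by
        by_cases hg : (g : G) ∈ H
        · by_cases hg1 : (g : G) = 1
          · rw [show g = 1 from Subtype.ext hg1, (hδ θ θ').2.1, zero_mul, zero_mul]
          · rw [hκ g hg hg1]
        · rw [hv g hg, zero_mul, zero_mul]), ← Finset.sum_mul, hsum, zero_mul, mul_zero] at h1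
    rcases mul_eq_zero.1 h1.symm with h2 | h2
    · rw [h2, mul_zero] at hε2; exact zero_ne_one hε2
    · exact (deg_pos (mem_chFin.1 θ'.2).1).ne' (by exact_mod_cast h2)
  obtain ⟨st, P, hP, hst1, h1P, hsP, hstdeg, hstu, -, hPv, -⟩ := X.exists_known
  have hone : oneChar G ∉ Finset.univ.image T := hnot _ ⟨1, fun u _ _ => rfl⟩
  have hstc : st ∉ Finset.univ.image T := hnot _ ⟨0, fun u hu hu1 => hstu u hu hu1⟩
  have hPc : ∀ χ ∈ P, χ ∉ Finset.univ.image T := fun χ hχ => hnot _ ⟨1, fun u hu hu1 => (hPv χ hχ).2.1 u hu hu1⟩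
  -- the sum of the squares
  set R := (Finset.univ \ Finset.univ.image T) \ (insert (oneChar G) (insert st P)) with hR
  have hcR : e - 1 ≤ R.card + P.card := by
    have h1 := X.card_classes
    rw [← hK, ← hS] at h1
    rw [← card_irr, Nat.card_eq_fintype_card] at h1
    have h2 : (Finset.univ.image T).card = S.card := by
      rw [Finset.card_image_of_injective _ hTinj, Finset.card_univ, Fintype.card_coe]
    have h3 := Finset.card_sdiff_add_card_eq_card (Finset.subset_univ (Finset.univ.image T))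
    have h4 := Finset.le_card_sdiff (insert (oneChar G) (insert st P)) (Finset.univ \ Finset.univ.image T)
    have h5 := Finset.card_insert_le (oneChar G) (insert st P)
    have h6 := Finset.card_insert_le st P
    rw [Finset.card_univ] at h3
    rw [← hR] at h4
    omega
  have hdeg : ∀ χ : IrrCharacter G, (χ : G → ℂ) 1 = deg (χ : G → ℂ) := fun χ => char_one_eq_deg (irr_isCharacter χ.2)
  have hsq : ∑ χ : IrrCharacter G, deg (χ : G → ℂ) ^ 2 = (h + 1) * h * e := by
    have h1 := sum_sq_deg (G := G)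
    rw [Nat.card_eq_fintype_card, card_group X.toOddCtx, Fintype.sum_congr _ _ fun χ => by rw [hdeg χ]] at h1
    exact_mod_cast h1
  have hpart : ∑ χ ∈ Finset.univ.image T, deg (χ : G → ℂ) ^ 2 + (∑ χ ∈ insert (oneChar G) (insert st P), deg (χ : G → ℂ) ^ 2 +
      ∑ χ ∈ R, deg (χ : G → ℂ) ^ 2) ≤ (h + 1) * h * e := by
    rw [← hsq, ← Finset.sum_union, ← Finset.sum_union]
    · exact Finset.sum_le_sum_of_subset (Finset.subset_univ _)
    · rw [Finset.disjoint_union_right]
      refine ⟨Finset.disjoint_left.2 fun χ hχ h' => ?_, Finset.disjoint_left.2 fun χ hχ h' => ?_⟩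
      · rw [Finset.mem_insert, Finset.mem_insert] at h'
        rcases h' with rfl | rfl | h'
        exacts [hone hχ, hstc hχ, hPc χ h' hχ]
      · exact (Finset.mem_sdiff.1 (Finset.mem_sdiff.1 h').1).2 hχ
    · exact Finset.disjoint_left.2 fun χ hχ h' => (Finset.mem_sdiff.1 h').2 hχ
  have hknown : ∑ χ ∈ insert (oneChar G) (insert st P), deg (χ : G → ℂ) ^ 2 = 1 + (h ^ 2 + P.card * (h + 1) ^ 2) := by
    have e1 : deg (oneChar G : G → ℂ) = 1 := by
      have h1 := hdeg (oneChar G)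
      have h2 : ((1 : ℕ) : ℂ) = (deg (oneChar G : G → ℂ) : ℂ) := by rw [← h1]; simp [oneChar]
      exact_mod_cast h2.symm
    have e2 : deg (st : G → ℂ) = h := by exact_mod_cast (hdeg st).symm.trans hstdeg
    have e3 : ∀ χ ∈ P, deg (χ : G → ℂ) = h + 1 := fun χ hχ => by
      exact_mod_cast (hdeg χ).symm.trans (hPv χ hχ).1
    rw [Finset.sum_insert (by rw [Finset.mem_insert]; exact not_or.2 ⟨hst1, h1P⟩), Finset.sum_insert hsP, e1, e2,
      Finset.sum_congr rfl fun χ hχ => by rw [e3 χ hχ], Finset.sum_const, smul_eq_mul, one_pow]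
  have hRsum : R.card * (h - 1) ^ 2 ≤ ∑ χ ∈ R, deg (χ : G → ℂ) ^ 2 := by
    rw [← smul_eq_mul, ← Finset.sum_const]
    refine Finset.sum_le_sum fun χ hχ => Nat.pow_le_pow_left ?_ 2
    rw [hR, Finset.mem_sdiff, Finset.mem_sdiff] at hχ
    obtain ⟨κ, hκ⟩ := hconst χ hχ.1.2
    exact X.deg_bound χ (fun e => hχ.2 (e ▸ Finset.mem_insert_self _ _)) hκ
  have hTsum : ∑ χ ∈ Finset.univ.image T, deg (χ : G → ℂ) ^ 2 = ∑ θ : {χ // χ ∈ S}, deg (T θ : G → ℂ) ^ 2 :=
    Finset.sum_image fun x _ y _ e => hTinj e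
  obtain ⟨k, hk1, hk2⟩ := chFin_sum_sq K X.centralizerK ⊥ bot_le
  rw [Subgroup.relIndex_bot_left, X.indexK, X.cardK] at hk1
  rw [X.indexK] at hk2
  -- a character of degree the index
  obtain ⟨k₁, hk₁, hsum₁⟩ := chFin_sum_sq K X.centralizerK ⁅K, K⁆ (Subgroup.commutator_le_right K K)
  obtain ⟨θ, hθ, hθdeg⟩ : ∃ θ : (stabilizer G a) → ℂ, θ ∈ chSet K ⊥ ∧ deg θ = e := by
    have hnil := frobKernel_nilpotent K X.K_ne_top X.centralizerK
    have hne : (chFin K ⁅K, K⁆).Nonempty := by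
      rw [Finset.nonempty_iff_ne_empty]
      intro h0
      rw [h0, Finset.sum_empty, eq_comm, mul_eq_zero] at hsum₁
      have hk0 : k₁ = 0 := hsum₁.resolve_left (pow_ne_zero _ Subgroup.index_ne_zero_of_finite)
      rw [hk0, mul_zero, zero_add] at hk₁
      have h1 : commutator K = ⊤ := by
        apply Subgroup.map_injective (Subgroup.subtype_injective K)
        rw [Subgroup.map_subtype_commutator, ← MonoidHom.range_eq_map, Subgroup.range_subtype]
        exact le_antisymm (Subgroup.commutator_le_right K K) (Subgroup.relIndex_eq_one.1 hk₁)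
      obtain ⟨q, hq, hqd⟩ := Nat.exists_prime_and_dvd (n := Nat.card K) (by rw [X.cardK]; have := X.two; omega)
      haveI := Fact.mk hq
      have h2 := prime_dvd_commutator_index (Q := K) q hqd
      rw [h1, Subgroup.index_top] at h2
      exact hq.ne_one (Nat.dvd_one.1 h2)
    obtain ⟨θ, hθ⟩ := hne
    obtain ⟨h1, h2, -⟩ := mem_chFin.1 hθ
    obtain ⟨t, ht0, hdeg', ht⟩ := chSet_deg_sq_le K X.centralizerK (M := ⁅K, K⁆) (E := K)
      (fun z hz h hh => Subgroup.commutator_mem_commutator hz hh) (mem_chFin.1 hθ)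
    rw [Subgroup.relIndex_self] at ht
    exact ⟨θ, ⟨h1, h2, fun d hd => by rw [Subgroup.mem_bot.1 hd]⟩, by
      rw [hdeg', show t = 1 by nlinarith, mul_one, X.indexK]⟩
  let θ₀ : {χ // χ ∈ S} := ⟨θ, mem_chFin.2 hθ⟩
  set D := deg (T θ₀ : G → ℂ) with hD
  have hDle : D ≤ e := by
    have h1 : e ^ 2 * ∑ χ ∈ Finset.univ.image T, deg (χ : G → ℂ) ^ 2 = D ^ 2 * (e ^ 2 * k) := by
      rw [hTsum, ← hk2, Finset.mul_sum, ← hS, ← Finset.sum_coe_sort S, Finset.mul_sum]
      refine Fintype.sum_congr _ _ fun θ' => ?_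
      rw [← mul_pow, ← mul_pow]
      have h2 := hdegT θ' θ₀
      rw [show deg θ₀.1 = e from hθdeg] at h2
      rw [h2, mul_comm D]
    rw [hknown] at hpart
    have he2 := X.ethree
    have hh := X.two
    obtain ⟨j, hj⟩ : ∃ j, h = j + 1 := ⟨h - 1, by omega⟩
    rw [hj, Nat.add_sub_cancel] at hRsum
    obtain ⟨m, hm⟩ : ∃ m, P.card = m := ⟨_, rfl⟩
    obtain ⟨r, hr⟩ : ∃ r, R.card = r := ⟨_, rfl⟩
    rw [hm, hj] at hpart
    rw [hr] at hRsum
    rw [hm, hr] at hcR
    rw [hm] at hP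
    have h3 : ∑ χ ∈ Finset.univ.image T, deg (χ : G → ℂ) ^ 2 ≤ e * j := by
      obtain ⟨m', hm'⟩ : ∃ m', e = 2 * m' + 1 := X.eodd
      have hrm : m ≤ r := by omega
      obtain rfl : m' = m := by omega
      subst hm'
      nlinarith [Nat.mul_le_mul_right (j ^ 2) hrm]
    have hj2 : j = e * k := by omega
    have h4 : D ^ 2 * (e ^ 2 * k) ≤ e ^ 2 * (e * j) := h1 ▸ Nat.mul_le_mul_left _ h3
    have hk0 : 0 < e ^ 2 * k := by
      have := X.big
      have : 0 < k := Nat.pos_of_ne_zero fun h0 => by rw [h0, mul_zero] at hj2; omega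
      positivity
    rw [hj2] at h4
    have h5 : D ^ 2 ≤ e ^ 2 := Nat.le_of_mul_le_mul_right (h4.trans_eq (by ring)) hk0
    exact (Nat.pow_le_pow_iff_left (by norm_num)).1 h5
  -- the square of its absolute value
  set χ := T θ₀ with hχ
  have hne : χ ≠ oneChar G := fun e => hone (e ▸ Finset.mem_image_of_mem _ (Finset.mem_univ _))
  have hresc : IsCharacter (stabilizer G a) (fun g : (stabilizer G a) => (χ : G → ℂ) g) := isCharacter_comp (stabilizer G a).subtype (irr_isCharacter χ.2)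
  obtain ⟨c, hc⟩ := exists_decomposition hresc
  obtain ⟨θ', hθ'mem, hθ'⟩ : ∃ θ' : IrrCharacter (stabilizer G a), (θ' : (stabilizer G a) → ℂ) ∈ chSet K ⊥ ∧
      (fun g : (stabilizer G a) => (χ : G → ℂ) g) = (θ' : (stabilizer G a) → ℂ) := by
    obtain ⟨θ', hθ'c, hθ'n⟩ : ∃ θ' : IrrCharacter (stabilizer G a), c θ' ≠ 0 ∧ (θ' : (stabilizer G a) → ℂ) ∈ chSet K ⊥ := by
      by_contra hcon
      push Not at hcon
      obtain ⟨u, hu, hu1, hne'⟩ := X.nonconst χ hne
      apply hne'
      have h1 := congrFun hc ⟨u, X.hle hu⟩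
      have h2 := congrFun hc 1
      simp only [Finset.sum_apply, Pi.smul_apply, OneMemClass.coe_one] at h1 h2
      rw [h1, h2]
      refine Finset.sum_congr rfl fun φ _ => ?_
      by_cases hφ : c φ = 0
      · rw [hφ, zero_smul, zero_smul]
      · by_contra hne''
        exact hcon φ hφ ((X.mem_chSet_iff φ).2 ⟨_, Subgroup.mem_subgroupOf.2 hu, fun e => hne'' (by rw [e])⟩)
    refine ⟨θ', hθ'n, ?_⟩
    obtain ⟨ψ, hψ1, hψdeg, -⟩ := chSet_induced K X.centralizerK hθ'n
    have hge : e ≤ deg (θ' : (stabilizer G a) → ℂ) := by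
      rw [hψdeg, X.indexK]
      exact Nat.le_mul_of_pos_right _ (deg_pos ψ.2)
    have h2 : D = ∑ φ : IrrCharacter (stabilizer G a), c φ * deg (φ : (stabilizer G a) → ℂ) := by
      have h2 := congrFun hc 1
      simp only [Finset.sum_apply, OneMemClass.coe_one, hdeg χ, nsmul_eq_mul, Pi.mul_apply, Pi.natCast_apply,
        char_one_eq_deg (irr_isCharacter (Subtype.prop _))] at h2
      exact_mod_cast h2
    rw [← Finset.add_sum_erase _ _ (Finset.mem_univ θ')] at h2
    have hc1 : c θ' = 1 := by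
      by_contra hne'
      have : 2 * e ≤ c θ' * deg (θ' : (stabilizer G a) → ℂ) := Nat.mul_le_mul (by omega) hge
      have := X.e_pos
      omega
    have hrest : ∀ φ ∈ Finset.univ.erase θ', c φ = 0 := fun φ hφ => by
      have h3 : c φ * deg (φ : (stabilizer G a) → ℂ) ≤ ∑ φ ∈ Finset.univ.erase θ', c φ * deg (φ : (stabilizer G a) → ℂ) :=
        Finset.single_le_sum (f := fun φ => c φ * deg (φ : (stabilizer G a) → ℂ)) (fun _ _ => Nat.zero_le _) hφ
      rw [hc1, one_mul] at h2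
      exact (mul_eq_zero.1 (Nat.eq_zero_of_le_zero (h3.trans (by omega)))).resolve_right (deg_pos φ.2).ne'
    rw [hc, ← Finset.add_sum_erase _ _ (Finset.mem_univ θ'), hc1, one_smul,
      Finset.sum_eq_zero fun φ hφ => by rw [hrest φ hφ, zero_smul], add_zero]
  set Q : G → ℂ := (χ : G → ℂ) * fun g => conj ((χ : G → ℂ) g) with hQ
  have hQc : IsCharacter G Q := isCharacter_mul (irr_isCharacter χ.2) (isCharacter_conj (irr_isCharacter χ.2))
  obtain ⟨q, hq⟩ := exists_decomposition hQc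
  have hq1 : q (oneChar G) = 1 := by
    have h1 := decomposition_coeff q hq (oneChar G)
    have h2 : classInner Q (oneChar G : G → ℂ) = classInner (χ : G → ℂ) (χ : G → ℂ) := by
      simp [classInner, hQ, oneChar]
    rw [h2, irr_self χ.2] at h1
    exact_mod_cast h1.symm
  have hqP : ∀ ψ ∈ P, q ψ = 1 := by
    intro ψ hψ
    obtain ⟨-, -, -, l, hl, hψl⟩ := hPv ψ hψ
    have h1 := decomposition_coeff q hq ψ
    rw [hψl, frobenius_right (stabilizer G a) _ (isClassFunction_character hQc)] at h1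
    have h2 : classInner (fun g : (stabilizer G a) => Q g) (fun g : (stabilizer G a) => ((l g : ℂˣ) : ℂ)) =
        classInner (θ' : (stabilizer G a) → ℂ) (θ' : (stabilizer G a) → ℂ) := by
      simp only [classInner]
      congr 1
      refine Finset.sum_congr rfl fun g _ => ?_
      have h3 : (χ : G → ℂ) g = (θ' : (stabilizer G a) → ℂ) g := congrFun hθ' g
      rw [hQ, Pi.mul_apply, h3]
      by_cases hg : (g : G) ∈ H
      · rw [hl g hg, Units.val_one, map_one, mul_one]
      · rw [X.vanish hθ'mem hg]; simp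
    rw [h2, irr_self θ'.2] at h1
    exact_mod_cast h1.symm
  have hbound : 1 + P.card * (h + 1) ≤ D * D := by
    have h1 := congrFun hq 1
    simp only [Finset.sum_apply, nsmul_eq_mul, hdeg, hQ, Pi.mul_apply, Pi.natCast_apply,
      map_natCast] at h1
    have h2 : D * D = ∑ ψ : IrrCharacter G, q ψ * deg (ψ : G → ℂ) := by exact_mod_cast h1
    rw [h2]
    refine le_trans (le_of_eq ?_) (Finset.sum_le_sum_of_subset (Finset.subset_univ (insert (oneChar G) P)))
    have e1 : deg (oneChar G : G → ℂ) = 1 := by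
      have h1 := hdeg (oneChar G)
      simp only [oneChar] at h1 ⊢
      exact_mod_cast h1.symm
    rw [Finset.sum_insert h1P, hq1, e1, Finset.sum_congr rfl (g := fun _ => h + 1) fun ψ hψ => by
      rw [hqP ψ hψ, one_mul]
      exact_mod_cast (hdeg ψ).symm.trans (hPv ψ hψ).1, Finset.sum_const, smul_eq_mul]
  obtain ⟨m', hm'⟩ : ∃ m', e = 2 * m' + 1 := X.eodd
  have hPm : P.card = m' := by omega
  have hbig := X.big
  have hDD : D * D ≤ e * e := Nat.mul_le_mul hDle hDle
  rw [hPm] at hbound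
  have h2 : 2 * e + 3 ≤ h + 1 := by omega
  have h3 := X.ethree
  nlinarith [Nat.mul_le_mul_left m' h2]

end Ctx

end Cfsg.Agent.Lie.Feit
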