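import Cfsg.Agent.Lib.Lie.Feit.KernelLinear
import Cfsg.Agent.Lib.Char.Convolution
import Cfsg.Agent.Lib.Char.KleinFour
import Cfsg.Agent.S0883

/-!
Character sums at an involution and square roots, when the number of moved points is odd.
-/

set_option autoImplicit false
set_option linter.unusedSectionVars false
set_option linter.style.haveILetI false

namespace Cfsg.Agent.Lie.Feit

open MulAction Cfsg
open Cfsg.Agent.Lie.ZassenhausCount
open Cfsg.Agent.Char
open scoped ComplexConjugate

universe u v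

variable {G : Type u} {Ω : Type v} [Group G] [MulAction G Ω] [Fintype Ω] [FaithfulSMul G Ω] [Fintype G]
  [IsSimpleGroup G] {H : Subgroup G} {a b : Ω} {h e : ℕ}

namespace Ctx

variable (X : Ctx G Ω H a b h e) [Fintype H]
include X

open scoped Classical in
theorem root_count (hodd : Odd h) (u : H) :
    ((Finset.univ.filter fun v : G => v * v = (u : G)).card : ℂ) = 1 + if u = 1 then (e : ℂ) * h else 0 := by
  by_cases hu : u = 1
  · subst hu
    have h1 : (Finset.univ.filter fun v : G => v * v = ((1 : H) : G)) = insert 1 (invols : Finset G) := by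
      ext v
      simp only [invols, Finset.mem_filter, Finset.mem_univ, true_and, Finset.mem_insert, OneMemClass.coe_one]
      refine ⟨fun hv => (em (v = 1)).imp id fun h' => ⟨h', hv⟩, ?_⟩
      rintro (rfl | hv)
      exacts [one_mul 1, hv.2]
    rw [h1, Finset.card_insert_of_notMem (by simp [invols]), card_invols X.toOddCtx,
      if_neg (Nat.not_even_iff_odd.2 hodd), if_pos rfl]
    push_cast
    ring
  · rw [if_neg hu, add_zero]
    obtain ⟨j, hj⟩ := id hodd
    have hu1 : (u : G) ≠ 1 := fun e => hu (Subtype.ext e)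
    have hpow : ∀ v : H, v ^ h = 1 := fun v => by rw [← X.hcard]; exact pow_card_eq_one'
    have h1 : (Finset.univ.filter fun v : G => v * v = (u : G)) = {((u ^ (j + 1) : H) : G)} := by
      ext v
      simp only [Finset.mem_filter, Finset.mem_univ, true_and, Finset.mem_singleton]
      constructor
      · intro hv
        have hvH : v ∈ H := X.centralizer_le u.2 hu1 (by rw [← hv, mul_assoc])
        obtain ⟨w, rfl⟩ : ∃ w : H, (w : G) = v := ⟨⟨v, hvH⟩, rfl⟩
        have hw : w * w = u := Subtype.ext hv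
        rw [← hw, ← sq, ← pow_mul, show 2 * (j + 1) = h + 1 by omega, pow_succ, hpow, one_mul]
      · rintro rfl
        rw [← Subgroup.coe_mul, ← pow_add, show j + 1 + (j + 1) = h + 1 by omega, pow_succ, hpow, one_mul]
    rw [h1, Finset.card_singleton, Nat.cast_one]

/-- An involution, with the data on its class. -/
theorem exists_invol (hodd : Odd h) : ∃ w : G, w ≠ 1 ∧ w * w = 1 ∧ (∀ c : Ω, w • c ≠ c) ∧
    Nat.card {x : G // IsConj w x} = e * h := by
  classical
  have hcard : (invols : Finset G).card = e * h := by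
    rw [card_invols X.toOddCtx, if_neg (Nat.not_even_iff_odd.2 hodd)]
  obtain ⟨w, hw⟩ := Finset.card_pos.1 (show 0 < (invols : Finset G).card by
    rw [hcard]; exact Nat.mul_pos X.e_pos (by have := X.two; omega))
  obtain ⟨-, hw1, hww⟩ := Finset.mem_filter.1 hw
  refine ⟨w, hw1, hww, fun c hc => ?_, ?_⟩
  · have h1 := nfix_invol X.toOddCtx hw1 hww
    rw [if_neg (Nat.not_even_iff_odd.2 hodd), nfix, Finset.card_eq_zero] at h1
    have h2 : c ∈ (Finset.univ.filter fun c : Ω => w • c = c) := by simp [hc]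
    rw [h1] at h2
    exact Finset.notMem_empty _ h2
  · rw [← hcard, Nat.card_eq_fintype_card, Fintype.card_subtype]
    congr 1
    ext x
    simp only [invols, Finset.mem_filter, Finset.mem_univ, true_and]
    refine ⟨fun hx => ?_, fun hx => invol_conj X.toOddCtx hw1 hww hx.1 hx.2⟩
    obtain ⟨k, rfl⟩ := isConj_iff.1 hx
    exact ⟨by rw [ne_eq, conj_eq_one_iff]; exact hw1,
      by rw [show k * w * k⁻¹ * (k * w * k⁻¹) = k * (w * w) * k⁻¹ by group, hww]; group⟩

omit [Fintype H] in
theorem not_prod_invol (hodd : Odd h) {u : G} (hu : u ∈ H) (hu1 : u ≠ 1) {x y : G} (hx1 : x ≠ 1) (hxx : x * x = 1)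
    (hy1 : y ≠ 1) (hyy : y * y = 1) : x * y ≠ u := by
  intro hxy
  have h2 := Cfsg.Agent.S0883.result X.isZassenhaus X.ab h e X.card X.ecard X.eodd X.big H X.hle
    (by rw [X.hcard, X.card]) X.honly u hu hu1 x y (orderOf_eq_prime (by rw [sq, hxx]) hx1)
    (orderOf_eq_prime (by rw [sq, hyy]) hy1) hxy
  have h3 : orderOf (⟨u, hu⟩ : H) ∣ h := X.hcard ▸ orderOf_dvd_natCard _
  rw [← Subgroup.orderOf_coe, h2] at h3
  exact hodd.not_two_dvd_nat h3

open scoped Classical in
theorem sum_invol (hodd : Odd h) {w : G} (hw1 : w ≠ 1) (hww : w * w = 1) (u : H) :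
    ∑ χ : IrrCharacter G, (χ : G → ℂ) w * (χ : G → ℂ) u = 0 + if u = 1 then 0 else 0 := by
  rw [ite_self, add_zero]
  have h1 := second_orth (u : G) w
  rw [if_neg fun hc => ?_] at h1
  · rw [← h1]
    refine Finset.sum_congr rfl fun χ _ => ?_
    rw [← char_inv (irr_isCharacter χ.2), inv_eq_of_mul_eq_one_right hww, mul_comm]
  · obtain ⟨k, hk⟩ := isConj_iff.1 hc
    have h2 : (u : G) ^ 2 = 1 := by
      have e1 : k * (u : G) ^ 2 * k⁻¹ = 1 := by rw [← conj_pow, hk, sq, hww]
      rwa [conj_eq_one_iff] at e1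
    have h3 : (u : G) ^ h = 1 := by
      rw [← SubmonoidClass.coe_pow, ← X.hcard, pow_card_eq_one', OneMemClass.coe_one]
    have h4 := pow_gcd_eq_one.2 ⟨h2, h3⟩
    rw [Nat.Coprime.gcd_eq_one (Nat.prime_two.coprime_iff_not_dvd.2 hodd.not_two_dvd_nat), pow_one] at h4
    rw [h4, mul_one, mul_inv_cancel] at hk
    exact hw1 hk.symm

open scoped Classical in
theorem sum_invol_sq (hodd : Odd h) {w : G} (hw1 : w ≠ 1) (hww : w * w = 1)
    (hK : Nat.card {x : G // IsConj w x} = e * h) (u : H) :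
    ∑ χ : IrrCharacter G, (χ : G → ℂ) w ^ 2 / (χ : G → ℂ) 1 * (χ : G → ℂ) u =
      0 + if u = 1 then (h : ℂ) + 1 else 0 := by
  rw [zero_add]
  have hG : (Nat.card G : ℂ) ≠ 0 := Nat.cast_ne_zero.2 Nat.card_pos.ne'
  have hterm : ∀ χ : IrrCharacter G, (χ : G → ℂ) w ^ 2 / (χ : G → ℂ) 1 * (χ : G → ℂ) u =
      (Nat.card G : ℂ)⁻¹ * ∑ t : G, (χ : G → ℂ) (w * (t * w * t⁻¹)) * conj ((χ : G → ℂ) (u : G)⁻¹) := by
    intro χ
    have h1 := sum_conj_mul χ.2 w w
    have hd := irr_one_ne_zero χ.2
    rw [← Finset.sum_mul, char_inv (irr_isCharacter χ.2), Complex.conj_conj]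
    field_simp
    linear_combination -((χ : G → ℂ) u) * h1
  rw [Finset.sum_congr rfl fun χ _ => hterm χ, ← Finset.mul_sum, Finset.sum_comm,
    Finset.sum_congr rfl fun t _ => second_orth (w * (t * w * t⁻¹)) (u : G)⁻¹]
  by_cases hu : u = 1
  · subst hu
    rw [if_pos rfl]
    simp only [OneMemClass.coe_one, inv_one, isConj_one_left, isConj_one_right]
    have hone : Nat.card {x : G // x = 1} = 1 := Nat.card_unique
    have hfilt : (Finset.univ.filter fun t : G => w * (t * w * t⁻¹) = 1) =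
        Finset.univ.filter fun t : G => t * w = w * t := by
      refine Finset.filter_congr fun t _ => ?_
      rw [mul_eq_one_iff_inv_eq, inv_eq_of_mul_eq_one_right hww, eq_comm, mul_inv_eq_iff_eq_mul]
    have hc : (Finset.univ.filter fun t : G => t * w = w * t).card = h + 1 := by
      have h1 := card_conjClass_mul_centralizer w
      rw [hK, Nat.card_eq_fintype_card (α := G), card_group X.toOddCtx, Nat.card_eq_fintype_card,
        Fintype.card_subtype] at h1
      refine Nat.eq_of_mul_eq_mul_left (Nat.mul_pos X.e_pos (show 0 < h by have := X.two; omega)) ?_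
      refine Eq.trans ?_ (h1.trans (by ring))
      congr 2
      ext t
      simp [Subgroup.mem_centralizer_singleton_iff, eq_comm]
    simp only [eq_comm (a := (1 : G)), hone, Nat.cast_one, div_one, ← Finset.sum_filter, Finset.sum_const,
      nsmul_eq_mul, hfilt, hc]
    push_cast
    field_simp
  · rw [if_neg hu, Finset.sum_eq_zero fun t _ => if_neg fun hcj => ?_, mul_zero]
    obtain ⟨k, hk⟩ := isConj_iff.1 hcj
    have hne : (u : G)⁻¹ ≠ 1 := inv_ne_one.2 fun e => hu (Subtype.ext e)
    refine X.not_prod_invol hodd (inv_mem u.2) hne (x := k * w * k⁻¹) (y := k * (t * w * t⁻¹) * k⁻¹) ?_ ?_ ?_ ?_ ?_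
    · rw [ne_eq, conj_eq_one_iff]; exact hw1
    · rw [show k * w * k⁻¹ * (k * w * k⁻¹) = k * (w * w) * k⁻¹ by group, hww]; group
    · rw [ne_eq, conj_eq_one_iff, conj_eq_one_iff]; exact hw1
    · rw [show k * (t * w * t⁻¹) * k⁻¹ * (k * (t * w * t⁻¹) * k⁻¹) = k * t * (w * w) * (k * t)⁻¹ by group, hww]
      group
    · rw [← hk]; group

omit [Fintype H] in
/-- If the degree is `e` times a number prime to `h`, then that number divides the value at an involution. -/
theorem dvd_value {w : G} (hK : Nat.card {x : G // IsConj w x} = e * h) (χ : IrrCharacter G) {c : ℤ}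
    (hc : (χ : G → ℂ) w = c) {s : ℕ} (hs : deg (χ : G → ℂ) = e * s) (hcop : Nat.Coprime h s) : (s : ℤ) ∣ c := by
  have he : (e : ℂ) ≠ 0 := Nat.cast_ne_zero.2 X.e_pos.ne'
  have hs0 : (s : ℂ) ≠ 0 := Nat.cast_ne_zero.2 fun e0 => (deg_pos χ.2).ne' (by rw [hs, e0, mul_zero])
  have hom := omega_isIntegral χ.2 w
  rw [omega, hK, hc, char_one_eq_deg (irr_isCharacter χ.2), hs] at hom
  obtain ⟨z, hz⟩ := isIntegral_rat_cast_imp (q := ((h : ℚ) * c) / s) (by
    refine (congrArg (IsIntegral ℤ) ?_).mp hom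
    push_cast
    field_simp)
  have hsq : (s : ℚ) ≠ 0 := by exact_mod_cast hs0
  rw [eq_div_iff hsq] at hz
  have h1 : (z : ℤ) * s = (h : ℤ) * c := by exact_mod_cast hz
  exact (Int.isCoprime_iff_nat_coprime.2 (by simpa using hcop.symm) : IsCoprime (s : ℤ) h).dvd_of_dvd_mul_left
    ⟨z, by rw [← h1]; ring⟩

end Ctx

end Cfsg.Agent.Lie.Feit
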