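import Cfsg.Agent.Lib.Lie.Feit.Known
import Cfsg.Agent.Lib.Char.FrobCoherence

/-!
Induction from the point stabiliser on functions supported by the kernel, and kernels of characters.
-/

set_option autoImplicit false
set_option linter.unusedSectionVars false
set_option linter.style.haveILetI false

namespace Cfsg.Agent.Lie.Feit

open MulAction Cfsg
open Cfsg.Agent.Lie.ZassenhausCount
open Cfsg.Agent.Char
open scoped ComplexConjugate

universe u v

variable {G : Type u} {Ω : Type v} [Group G] [MulAction G Ω] [Fintype Ω] [FaithfulSMul G Ω] [Fintype G]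
  [IsSimpleGroup G] {H : Subgroup G} {a b : Ω} {h e : ℕ}

namespace Ctx

variable (X : Ctx G Ω H a b h e) [Fintype ↥(stabilizer G a)]
include X

theorem centralizerK : ∀ n ∈ H.subgroupOf (stabilizer G a), n ≠ 1 →
    Subgroup.centralizer ({n} : Set ↥(stabilizer G a)) ≤ H.subgroupOf (stabilizer G a) := by
  intro n hn hn1 g hg
  rw [Subgroup.mem_subgroupOf] at hn ⊢
  refine X.centralizer_le hn (fun e => hn1 (Subtype.ext e)) ?_
  exact congrArg Subtype.val (Subgroup.mem_centralizer_singleton_iff.1 hg)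

theorem cardK : Nat.card (H.subgroupOf (stabilizer G a)) = h := by
  rw [Nat.card_congr (Subgroup.subgroupOfEquivOfLe X.hle).toEquiv, X.hcard]

theorem K_ne_bot : H.subgroupOf (stabilizer G a) ≠ ⊥ := fun e => by
  have := X.cardK
  rw [e, Subgroup.card_bot] at this
  have := X.two; omega

theorem K_ne_top : H.subgroupOf (stabilizer G a) ≠ ⊤ := fun e' => by
  have := X.indexK (H := H)
  rw [e', Subgroup.index_top] at this
  have := X.ethree; omega

theorem vanish {χ : ↥(stabilizer G a) → ℂ} (hχ : χ ∈ chSet (H.subgroupOf (stabilizer G a)) ⊥)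
    {g : ↥(stabilizer G a)} (hg : (g : G) ∉ H) : χ g = 0 := by
  haveI := X.normalK
  haveI := Fintype.ofFinite (H.subgroupOf (stabilizer G a))
  exact vanish_of_nonconst _ X.centralizerK ⟨χ, hχ.1⟩ hχ.2.1 (fun h' => hg (Subgroup.mem_subgroupOf.1 h'))

theorem sum_zero {χ : ↥(stabilizer G a) → ℂ} (hχ : χ ∈ chSet (H.subgroupOf (stabilizer G a)) ⊥) :
    ∑ g, χ g = 0 := by
  classical
  have h1 := irr_orth hχ.1 isIrrCharacter_one
  obtain ⟨k, -, hk⟩ := hχ.2.1
  rw [if_neg fun e => hk (by rw [e]), classInner, mul_eq_zero] at h1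
  rcases h1 with h1 | h1
  · exact absurd h1 (inv_ne_zero (Nat.cast_ne_zero.2 Nat.card_pos.ne'))
  · simpa using h1

theorem zspan_props {α : ↥(stabilizer G a) → ℂ} (hα : α ∈ zspan (chSet (H.subgroupOf (stabilizer G a)) ⊥)) :
    IsGeneralizedCharacter ↥(stabilizer G a) α ∧ IsClassFunction ↥(stabilizer G a) α ∧
      (∀ g : ↥(stabilizer G a), (g : G) ∉ H → α g = 0) ∧ ∑ g, α g = 0 := by
  change α ∈ Submodule.span ℤ _ at hα
  induction hα using Submodule.span_induction with
  | mem χ h => exact ⟨⟨χ, 0, irr_isCharacter h.1, isCharacter_zero, (sub_zero χ).symm⟩,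
      isClassFunction_character (irr_isCharacter h.1), fun g hg => X.vanish h hg, X.sum_zero h⟩
  | zero => exact ⟨isGenChar_zero, fun _ _ => rfl, fun _ _ => rfl, by simp⟩
  | add x y _ _ hx hy =>
    refine ⟨?_, fun g k => by simp [hx.2.1 g k, hy.2.1 g k], fun g hg => by simp [hx.2.2.1 g hg, hy.2.2.1 g hg],
      by simp [Finset.sum_add_distrib, hx.2.2.2, hy.2.2.2]⟩
    obtain ⟨p, q, hp, hq, rfl⟩ := hx.1
    obtain ⟨r, s, hr, hs, rfl⟩ := hy.1
    exact ⟨p + r, q + s, isCharacter_add hp hr, isCharacter_add hq hs, by abel⟩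
  | smul n x _ hx =>
    refine ⟨?_, fun g k => by simp [hx.2.1 g k], fun g hg => by simp [hx.2.2.1 g hg],
      by simp [← Finset.mul_sum, hx.2.2.2]⟩
    rw [← Int.cast_smul_eq_zsmul ℂ]
    exact isGenChar_int_smul hx.1 n

theorem ind_restrict {α : ↥(stabilizer G a) → ℂ} (hcl : IsClassFunction ↥(stabilizer G a) α)
    (hv : ∀ g : ↥(stabilizer G a), (g : G) ∉ H → α g = 0) (h1 : α 1 = 0) (g : ↥(stabilizer G a)) :
    indFun (stabilizer G a) α g = α g := by
  classical
  have hterm : ∀ x : G, extendByZero (stabilizer G a) α (x⁻¹ * g * x) =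
      if x ∈ stabilizer G a then α g else 0 := by
    intro x
    split_ifs with hx
    · rw [extendByZero_mem _ _ (mul_mem (mul_mem (inv_mem hx) g.2) hx), ← hcl g ⟨x⁻¹, inv_mem hx⟩]
      congr 1
      exact Subtype.ext (by simp)
    · by_cases hm : x⁻¹ * (g : G) * x ∈ stabilizer G a
      · rw [extendByZero_mem _ _ hm]
        by_cases hH : x⁻¹ * (g : G) * x ∈ H
        · by_cases hg1 : x⁻¹ * (g : G) * x = 1
          · rw [show (⟨_, hm⟩ : stabilizer G a) = 1 from Subtype.ext hg1, h1]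
          · exfalso
            apply hx
            show x • a = a
            have h' := X.honly _ hH hg1 (x⁻¹ • a)
              (by rw [mul_smul, mul_smul, smul_inv_smul, (g.2 : (g : G) • a = a)])
            exact (inv_smul_eq_iff.1 h').symm
        · exact hv _ hH
      · exact extendByZero_not_mem _ _ hm
  rw [indFun, Finset.sum_congr rfl fun x _ => hterm x, ← Finset.sum_filter, Finset.sum_const, nsmul_eq_mul,
    ← Fintype.card_subtype, ← Nat.card_eq_fintype_card, inv_mul_cancel_left₀]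
  exact Nat.cast_ne_zero.2 Nat.card_pos.ne'

theorem isometry : IsLinearIsometryOn (zspanOn (chSet (H.subgroupOf (stabilizer G a)) ⊥) {1}ᶜ)
    (indFun (stabilizer G a)) := by
  refine ⟨fun α _ β _ => indFun_add _ α β, fun α _ n => ?_, fun α hα β hβ => ?_, fun α hα => ?_⟩
  · rw [← Int.cast_smul_eq_zsmul ℂ, ← Int.cast_smul_eq_zsmul ℂ, indFun_smul]
  · obtain ⟨-, hcl, hv, -⟩ := X.zspan_props hβ.1
    rw [frobenius (stabilizer G a) α (isClassFunction_indFun _ β)]
    congr 1
    funext g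
    exact X.ind_restrict hcl hv (hβ.2 1 (by simp)) g
  · obtain ⟨⟨p, q, hp, hq, rfl⟩, -⟩ := X.zspan_props hα.1
    exact ⟨_, _, isCharacter_indFun _ hp, isCharacter_indFun _ hq, indFun_sub _ p q⟩

omit [Fintype ↥(stabilizer G a)] in
/-- A nontrivial irreducible character is not constant on the kernel. -/
theorem nonconst (χ : IrrCharacter G) (hχ : χ ≠ oneChar G) : ∃ u ∈ H, u ≠ 1 ∧ (χ : G → ℂ) u ≠ (χ : G → ℂ) 1 := by
  classical
  by_contra hcon
  push Not at hcon
  apply hχ
  obtain ⟨n, ρ, -, hρ⟩ := id χ.2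
  haveI : Nontrivial H := Finite.one_lt_card_iff_nontrivial.1 (by rw [X.hcard]; exact X.two)
  obtain ⟨u, hu⟩ := exists_ne (1 : H)
  have hu' : (u : G) ≠ 1 := fun e => hu (Subtype.ext e)
  have hker : (u : G) ∈ ρ.ker := by
    rw [MonoidHom.mem_ker]
    refine (eq_id_iff ρ _).1 ?_
    rw [congrFun hρ, hcon u u.2 hu', ← congrFun hρ 1, Representation.char_one]
  have htop : ρ.ker = ⊤ := (ρ.normal_ker.eq_bot_or_eq_top).resolve_left fun e => by
    rw [e, Subgroup.mem_bot] at hker
    exact hu' hker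
  have hall : ∀ g, (χ : G → ℂ) g = (χ : G → ℂ) 1 := fun g => by
    have h1 : ρ g = ρ 1 := by
      rw [map_one]; exact MonoidHom.mem_ker.1 (htop ▸ Subgroup.mem_top g)
    rw [← congrFun hρ g, ← congrFun hρ 1, Representation.character, Representation.character, h1]
  by_contra hne
  have h1 := irrC_orth χ (oneChar G)
  rw [if_neg hne, classInner, Finset.sum_congr rfl (g := fun _ => (χ : G → ℂ) 1) (fun g _ => by
    rw [hall g]; simp [oneChar]), Finset.sum_const, Finset.card_univ, nsmul_eq_mul,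
    ← Nat.card_eq_fintype_card, inv_mul_cancel_left₀ (Nat.cast_ne_zero.2 Nat.card_pos.ne'),
    char_one_eq_deg (irr_isCharacter χ.2)] at h1
  exact (deg_pos χ.2).ne' (by exact_mod_cast h1)

/-- A nontrivial linear character of the kernel. -/
theorem exists_eta : ∃ η : H →* ℂˣ, η ≠ 1 := by
  haveI := X.normalK
  haveI := frobKernel_nilpotent (H.subgroupOf (stabilizer G a)) X.K_ne_top X.centralizerK
  haveI : Group.IsNilpotent H := Group.nilpotent_of_mulEquiv (Subgroup.subgroupOfEquivOfLe X.hle)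
  obtain ⟨q, hq, hqd⟩ := Nat.exists_prime_and_dvd (n := Nat.card H) (by rw [X.hcard]; have := X.two; omega)
  haveI := Fact.mk hq
  have h1 := prime_dvd_commutator_index (Q := H) q hqd
  rw [← card_hom_units] at h1
  by_contra hcon
  push Not at hcon
  have h2 : Nat.card (H →* ℂˣ) = 1 := Nat.card_eq_one_iff_unique.2 ⟨⟨fun x y => (hcon x).trans (hcon y).symm⟩, ⟨1⟩⟩
  exact hq.ne_one (Nat.dvd_one.1 (h2 ▸ h1))

/-- The lower bound for degrees of characters constant on the kernel. -/
theorem deg_bound [Fintype H] (χ : IrrCharacter G) (hχ : χ ≠ oneChar G) {κ : ℂ}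
    (hκ : ∀ u ∈ H, u ≠ 1 → (χ : G → ℂ) u = κ) : h - 1 ≤ deg (χ : G → ℂ) := by
  classical
  obtain ⟨η, hη⟩ := X.exists_eta
  have hres : IsCharacter H (fun u : H => (χ : G → ℂ) u) := isCharacter_comp H.subtype (irr_isCharacter χ.2)
  obtain ⟨n, hn⟩ := classInner_natCast hres (isCharacter_linear η)
  obtain ⟨m, hm⟩ := classInner_natCast hres (isCharacter_one (G := H))
  have hηsum : ∑ u : H, conj ((η u : ℂ)) = 0 := by
    have h1 := irr_orth (isIrrCharacter_one (G := H)) (isIrrCharacter_linear η)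
    rw [if_neg fun e => hη (MonoidHom.ext fun g => Units.ext (by simpa using (congrFun e g).symm)), classInner,
      mul_eq_zero] at h1
    rcases h1 with h1 | h1
    · exact absurd h1 (inv_ne_zero (Nat.cast_ne_zero.2 Nat.card_pos.ne'))
    · simpa using h1
  have hh : (h : ℂ) ≠ 0 := Nat.cast_ne_zero.2 (by have := X.two; omega)
  have hsplit : ∀ f : H → ℂ, ∑ u : H, (χ : G → ℂ) u * f u =
      ((χ : G → ℂ) 1 - κ) * f 1 + κ * ∑ u : H, f u := by
    intro f
    rw [← Finset.add_sum_erase _ _ (Finset.mem_univ (1 : H)), ← Finset.add_sum_erase _ f (Finset.mem_univ (1 : H)),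
      Finset.sum_congr rfl (g := fun u => κ * f u) fun (u : H) hu => by
        rw [hκ u u.2 fun e => (Finset.mem_erase.1 hu).1 (Subtype.ext e)], ← Finset.mul_sum, OneMemClass.coe_one]
    ring
  have e1 : (χ : G → ℂ) 1 - κ = h * n := by
    have h1 := hn
    rw [classInner, X.hcard, inv_mul_eq_iff_eq_mul₀ hh, hsplit, hηsum] at h1
    simpa using h1
  have e2 : (χ : G → ℂ) 1 - κ + κ * h = h * m := by
    have h1 := hm
    rw [classInner, X.hcard, inv_mul_eq_iff_eq_mul₀ hh] at h1
    simp only [map_one] at h1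
    rw [hsplit, Finset.sum_const, Finset.card_univ, ← Nat.card_eq_fintype_card, X.hcard, nsmul_one,
      mul_one] at h1
    exact h1
  have hd := char_one_eq_deg (irr_isCharacter χ.2)
  have hn0 : n ≠ 0 := by
    intro h0
    obtain ⟨u, hu, hu1, hne⟩ := X.nonconst χ hχ
    rw [h0, Nat.cast_zero, mul_zero, sub_eq_zero] at e1
    exact hne (by rw [hκ u hu hu1, e1])
  have h3 : ((deg (χ : G → ℂ) + n : ℕ) : ℂ) = ((m + h * n : ℕ) : ℂ) := by
    push_cast
    refine mul_left_cancel₀ hh ?_
    rw [← hd]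
    linear_combination e2 + ((h : ℂ) - 1) * e1
  have h4 : deg (χ : G → ℂ) + n = m + h * n := by exact_mod_cast h3
  have h5 : 1 ≤ n := Nat.one_le_iff_ne_zero.2 hn0
  have h2 := X.two
  obtain ⟨j, rfl⟩ : ∃ j, h = j + 1 := ⟨h - 1, by omega⟩
  simp only [Nat.add_sub_cancel]
  nlinarith

end Ctx

end Cfsg.Agent.Lie.Feit
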