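import Cfsg.Agent.Lib.Lie.Feit.Isometry
import Cfsg.Agent.Lib.Char.SquareRoots
import Cfsg.Agent.Lib.Char.RealClass

/-!
Linear characters of the kernel and the sums of products of their multiplicities in the characters of the group.
-/

set_option autoImplicit false
set_option linter.unusedSectionVars false
set_option linter.style.haveILetI false

namespace Cfsg.Agent.Lie.Feit

open MulAction Cfsg
open Cfsg.Agent.Lie.ZassenhausCount
open Cfsg.Agent.Char
open scoped ComplexConjugate

universe u v

variable {G : Type u} {Ω : Type v} [Group G] [MulAction G Ω] [Fintype Ω] [FaithfulSMul G Ω] [Fintype G]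
  [IsSimpleGroup G] {H : Subgroup G} {a b : Ω} {h e : ℕ}

namespace Ctx

variable (X : Ctx G Ω H a b h e) [Fintype ↥(stabilizer G a)] [Fintype H]

/-- A linear character of the kernel moved by an element of the point stabiliser. -/
noncomputable def twist (x : ↥(stabilizer G a)) (η : H →* ℂˣ) : H →* ℂˣ where
  toFun u := η ⟨(x : G)⁻¹ * u * x, by simpa using X.conj_mem (inv_mem x.2) u.2⟩
  map_one' := by
    rw [show (⟨(x : G)⁻¹ * ((1 : H) : G) * x, _⟩ : H) = 1 from Subtype.ext (by simp), map_one]
  map_mul' u v := by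
    rw [← map_mul]
    congr 1
    exact Subtype.ext (by simp [mul_assoc])

include X

theorem twist_apply (x : ↥(stabilizer G a)) (η : H →* ℂˣ) (u : H) :
    X.twist x η u = η ⟨(x : G)⁻¹ * u * x, by simpa using X.conj_mem (inv_mem x.2) u.2⟩ := rfl

theorem twist_twist (x y : ↥(stabilizer G a)) (η : H →* ℂˣ) :
    X.twist x (X.twist y η) = X.twist (x * y) η :=
  MonoidHom.ext fun u => by
    rw [twist_apply, twist_apply, twist_apply]
    congr 1
    exact Subtype.ext (by simp [mul_assoc])

theorem twist_inv (x : ↥(stabilizer G a)) (η : H →* ℂˣ) : X.twist x η⁻¹ = (X.twist x η)⁻¹ :=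
  MonoidHom.ext fun _ => rfl

theorem twist_of_mem (x : ↥(stabilizer G a)) (hx : (x : G) ∈ H) (η : H →* ℂˣ) : X.twist x η = η :=
  MonoidHom.ext fun u => by
    rw [twist_apply,
      show (⟨(x : G)⁻¹ * u * x, _⟩ : H) = ⟨x, hx⟩⁻¹ * u * ⟨x, hx⟩ from Subtype.ext (by simp), map_mul, map_mul,
      map_inv, mul_comm (η ⟨x, hx⟩)⁻¹, inv_mul_cancel_right]

theorem mem_of_twist_eq {x : ↥(stabilizer G a)} {η : H →* ℂˣ} (hη : η ≠ 1) (hx : X.twist x η = η) : (x : G) ∈ H := by
  by_contra hxH
  let f : H → H := fun u => u⁻¹ * ⟨(x : G)⁻¹ * u * x, by simpa using X.conj_mem (inv_mem x.2) u.2⟩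
  have hf : Function.Injective f := by
    intro u v huv
    by_contra hne
    have h1 : (u : G)⁻¹ * ((x : G)⁻¹ * u * x) = (v : G)⁻¹ * ((x : G)⁻¹ * v * x) := congrArg Subtype.val huv
    refine hxH (X.centralizer_le (v * u⁻¹ : H).2 (fun e => hne ?_) ?_)
    · exact (mul_inv_eq_one.1 (Subtype.ext e : v * u⁻¹ = 1)).symm
    · simp only [Subgroup.coe_mul, Subgroup.coe_inv]
      calc (x : G) * ((v : G) * (u : G)⁻¹)
          = x * ((v : G) * ((u : G)⁻¹ * ((x : G)⁻¹ * u * x)) * ((x : G)⁻¹ * (u : G)⁻¹ * x)) := by group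
        _ = x * ((v : G) * ((v : G)⁻¹ * ((x : G)⁻¹ * v * x)) * ((x : G)⁻¹ * (u : G)⁻¹ * x)) := by rw [h1]
        _ = (v : G) * (u : G)⁻¹ * x := by group
  refine hη (MonoidHom.ext fun w => ?_)
  obtain ⟨u, rfl⟩ := (Finite.injective_iff_surjective.1 hf) w
  rw [MonoidHom.one_apply, map_mul, map_inv, ← X.twist_apply x η u, hx, inv_mul_cancel]

theorem odd_stab (hodd : Odd h) : Odd (Nat.card ↥(stabilizer G a)) := by
  rw [X.card_stab]; exact hodd.mul X.eodd

theorem twist_ne_inv (hodd : Odd h) {η : H →* ℂˣ} (hη : η ≠ 1) (x : ↥(stabilizer G a)) : X.twist x η ≠ η⁻¹ := by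
  intro hx
  have h2 : X.twist (x * x) η = η := by
    rw [← twist_twist, hx, twist_inv, hx]
    exact MonoidHom.ext fun u => inv_inv _
  have hm := Subgroup.mem_subgroupOf.2 (X.mem_of_twist_eq hη h2)
  obtain ⟨j, hj⟩ := X.odd_stab hodd
  have hx2 : x ∈ H.subgroupOf (stabilizer G a) := by
    have h1 : x = (x * x) ^ (j + 1) := by
      rw [← sq, ← pow_mul, show 2 * (j + 1) = Nat.card ↥(stabilizer G a) + 1 by omega, pow_succ, pow_card_eq_one',
        one_mul]
    rw [h1]
    exact pow_mem hm _
  rw [X.twist_of_mem x (Subgroup.mem_subgroupOf.1 hx2)] at hx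
  refine hη (MonoidHom.ext fun u => ?_)
  have h1 : η u ^ 2 = 1 := by
    rw [sq]
    nth_rewrite 1 [DFunLike.congr_fun hx u]
    exact inv_mul_cancel _
  have h3 : η u ^ h = 1 := by
    rw [← map_pow, ← X.hcard, pow_card_eq_one', map_one]
  have h4 := pow_gcd_eq_one.2 ⟨h1, h3⟩
  rwa [Nat.Coprime.gcd_eq_one (Nat.prime_two.coprime_iff_not_dvd.2 hodd.not_two_dvd_nat), pow_one] at h4

omit X in
theorem lin_conj (η : H →* ℂˣ) (u : H) : conj ((η u : ℂ)) = ((η⁻¹ u : ℂˣ) : ℂ) := by
  rw [← char_inv (isCharacter_linear η), MonoidHom.inv_apply, ← map_inv]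

omit X in
theorem sum_lin (η : H →* ℂˣ) (hη : η ≠ 1) : ∑ u : H, conj ((η u : ℂ)) = 0 := by
  have h1 := irr_orth (isIrrCharacter_one (G := H)) (isIrrCharacter_linear η)
  rw [if_neg fun e => hη (MonoidHom.ext fun g => Units.ext (by simpa using (congrFun e g).symm)), classInner,
    mul_eq_zero] at h1
  rcases h1 with h1 | h1
  · exact absurd h1 (inv_ne_zero (Nat.cast_ne_zero.2 Nat.card_pos.ne'))
  · simpa using h1

open scoped Classical in
/-- Multiplicities of linear characters summed against a function with two values on the kernel. -/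
theorem pair_eta (f : IrrCharacter G → ℂ) (A B : ℂ)
    (hf : ∀ u : H, ∑ χ : IrrCharacter G, f χ * (χ : G → ℂ) u = A + if u = 1 then B else 0)
    {η : H →* ℂˣ} (hη : η ≠ 1) :
    ∑ χ : IrrCharacter G, f χ * classInner (fun u : H => (χ : G → ℂ) u) (fun u => (η u : ℂ)) = (h : ℂ)⁻¹ * B := by
  simp only [classInner, X.hcard, Finset.mul_sum]
  rw [Finset.sum_comm]
  rw [Finset.sum_congr rfl (g := fun u : H => (h : ℂ)⁻¹ * ((A + if u = 1 then B else 0) * conj ((η u : ℂ))))
    fun u _ => by
      rw [← hf u, Finset.sum_mul, Finset.mul_sum]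
      exact Finset.sum_congr rfl fun χ _ => by ring]
  rw [← Finset.mul_sum]
  congr 1
  simp only [add_mul, Finset.sum_add_distrib, ← Finset.mul_sum, sum_lin η hη, mul_zero, zero_add, ite_mul,
    zero_mul, Finset.sum_ite_eq', Finset.mem_univ, if_true, map_one, Units.val_one, mul_one]

theorem inner_twist (χ : IrrCharacter G) (x : ↥(stabilizer G a)) (η : H →* ℂˣ) :
    classInner (fun u : H => (χ : G → ℂ) u) (fun u => (X.twist x η u : ℂ)) =
      classInner (fun u : H => (χ : G → ℂ) u) (fun u => (η u : ℂ)) := by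
  simp only [classInner]
  congr 1
  have hbij : Function.Bijective fun u : H =>
      (⟨(x : G)⁻¹ * u * x, by simpa using X.conj_mem (inv_mem x.2) u.2⟩ : H) := by
    refine (Finite.injective_iff_bijective).1 fun u v huv => ?_
    have h1 : (x : G)⁻¹ * u * x = (x : G)⁻¹ * v * x := congrArg Subtype.val huv
    exact Subtype.ext (mul_left_cancel (mul_right_cancel h1))
  refine Fintype.sum_bijective _ hbij _ _ fun u => ?_
  rw [X.twist_apply]
  congr 1
  have h1 := isClassFunction_character (irr_isCharacter χ.2) (u : G) (x : G)⁻¹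
  simpa using h1.symm

/-- The sum of products of multiplicities of two linear characters of the kernel, either of which may be
trivial. -/
theorem mult_prod_all (η η' : H →* ℂˣ) :
    ∑ χ : IrrCharacter G, classInner (fun u : H => (χ : G → ℂ) u) (fun u => (η' u : ℂ)) *
        classInner (fun u : H => (χ : G → ℂ) u) (fun u => (η u : ℂ)) =
      (e : ℂ) + (h : ℂ)⁻¹ * (Nat.card {x : ↥(stabilizer G a) // X.twist x η' = η} : ℂ) := by
  classical
  have hreal : ∀ χ : IrrCharacter G, conj (classInner (fun u : H => (χ : G → ℂ) u) (fun u => (η' u : ℂ))) =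
      classInner (fun u : H => (χ : G → ℂ) u) (fun u => (η' u : ℂ)) := fun χ => by
    obtain ⟨n, hn⟩ := classInner_natCast (isCharacter_comp H.subtype (irr_isCharacter χ.2)) (isCharacter_linear η')
    rw [show (fun u : H => (χ : G → ℂ) u) = (χ : G → ℂ) ∘ H.subtype from rfl, hn, map_natCast]
  have hexp : ∀ g : G, ∑ χ : IrrCharacter G, classInner (fun u : H => (χ : G → ℂ) u) (fun u => (η' u : ℂ)) *
      (χ : G → ℂ) g = indFun H (fun u => (η' u : ℂ)) g := by
    intro g
    have h1 := congrFun (classFun_expansion (isClassFunction_indFun H fun u => (η' u : ℂ))) g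
    rw [h1, Finset.sum_apply]
    refine Finset.sum_congr rfl fun χ _ => ?_
    rw [Pi.smul_apply, smul_eq_mul, frobenius H _ (isClassFunction_character (irr_isCharacter χ.2)),
      ← hreal χ, classInner_symm]
  have hh : (h : ℂ) ≠ 0 := Nat.cast_ne_zero.2 (by have := X.two; omega)
  -- the induced character on the kernel
  have hval : ∀ u : H, indFun H (fun u => (η' u : ℂ)) u =
      (h : ℂ)⁻¹ * ∑ x : ↥(stabilizer G a), ((X.twist x η' u : ℂˣ) : ℂ) + if u = 1 then (h : ℂ) * e else 0 := by
    intro u
    by_cases hu : u = 1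
    · subst hu
      rw [if_pos rfl, OneMemClass.coe_one, indFun_one]
      have h1 := Subgroup.card_mul_index H
      rw [X.hcard, Nat.card_eq_fintype_card, card_group X.toOddCtx] at h1
      have h2 : H.index = (h + 1) * e := Nat.eq_of_mul_eq_mul_left (show 0 < h by have := X.two; omega)
        (h1.trans (by ring))
      simp only [map_one, Units.val_one, mul_one, Finset.sum_const, Finset.card_univ, nsmul_one,
        ← Nat.card_eq_fintype_card, X.card_stab, h2]
      push_cast
      field_simp
      ring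
    · rw [if_neg hu, add_zero, indFun, X.hcard]
      congr 1
      rw [← Finset.sum_filter_add_sum_filter_not Finset.univ (fun x : G => x ∈ stabilizer G a),
        Finset.sum_eq_zero (s := Finset.univ.filter fun x : G => x ∉ stabilizer G a) fun x hx => ?_, add_zero,
        Finset.sum_subtype (p := fun x : G => x ∈ stabilizer G a) _ (fun x => by simp)]
      · refine Fintype.sum_congr _ _ fun x => ?_
        rw [extendByZero_mem _ _ (by simpa using X.conj_mem (inv_mem x.2) u.2), twist_apply]
      · refine extendByZero_not_mem _ _ fun hm => (Finset.mem_filter.1 hx).2 ?_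
        have h1 := X.fusion u.2 (fun e => hu (Subtype.ext e)) (g := x⁻¹) (by simpa using hm)
        simpa using inv_mem h1
  have horth : ∀ x : ↥(stabilizer G a), ∑ u : H, ((X.twist x η' u : ℂˣ) : ℂ) * conj ((η u : ℂ)) =
      if X.twist x η' = η then (h : ℂ) else 0 := by
    intro x
    have h1 := irr_orth (isIrrCharacter_linear (X.twist x η')) (isIrrCharacter_linear η)
    rw [classInner, X.hcard, inv_mul_eq_iff_eq_mul₀ hh] at h1
    rw [h1]
    by_cases hc : X.twist x η' = η
    · rw [if_pos hc, if_pos (by rw [hc]), mul_one]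
    · rw [if_neg hc, if_neg fun e => hc (MonoidHom.ext fun g => Units.ext (congrFun e g)), mul_zero]
  calc ∑ χ : IrrCharacter G, classInner (fun u : H => (χ : G → ℂ) u) (fun u => (η' u : ℂ)) *
        classInner (fun u : H => (χ : G → ℂ) u) (fun u => (η u : ℂ))
      = (h : ℂ)⁻¹ * ∑ u : H, indFun H (fun u => (η' u : ℂ)) u * conj ((η u : ℂ)) := by
        simp only [← hexp]
        rw [Finset.mul_sum]
        simp only [classInner, X.hcard, Finset.mul_sum, Finset.sum_mul]
        rw [Finset.sum_comm]
        refine Finset.sum_congr rfl fun u _ => Finset.sum_congr rfl fun χ _ => Finset.sum_congr rfl fun v _ => ?_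
        ring
    _ = (h : ℂ)⁻¹ * ((h : ℂ)⁻¹ * ∑ x : ↥(stabilizer G a), ∑ u : H, ((X.twist x η' u : ℂˣ) : ℂ) * conj ((η u : ℂ)) +
          (h : ℂ) * e) := by
        congr 1
        simp only [hval, add_mul, Finset.sum_add_distrib, ite_mul, zero_mul, Finset.sum_ite_eq', Finset.mem_univ,
          if_true, map_one, Units.val_one, mul_one]
        congr 1
        simp only [Finset.mul_sum, Finset.sum_mul]
        rw [Finset.sum_comm]
        exact Finset.sum_congr rfl fun x _ => Finset.sum_congr rfl fun u _ => by ring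
    _ = _ := by
        simp only [horth, ← Finset.sum_filter, Finset.sum_const, nsmul_eq_mul, Nat.card_eq_fintype_card,
          Fintype.card_subtype]
        field_simp
        ring

/-- The sum of products of multiplicities of two linear characters of the kernel. -/
theorem mult_prod {η η' : H →* ℂˣ} (_hη : η ≠ 1) :
    ∑ χ : IrrCharacter G, classInner (fun u : H => (χ : G → ℂ) u) (fun u => (η' u : ℂ)) *
        classInner (fun u : H => (χ : G → ℂ) u) (fun u => (η u : ℂ)) =
      (e : ℂ) + (h : ℂ)⁻¹ * (Nat.card {x : ↥(stabilizer G a) // X.twist x η' = η} : ℂ) :=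
  X.mult_prod_all η η'

theorem mult_self {η : H →* ℂˣ} (hη : η ≠ 1) :
    Nat.card {x : ↥(stabilizer G a) // X.twist x η = η} = h := by
  exact (Nat.card_congr (Equiv.subtypeEquivRight fun x =>
    ⟨fun hx => Subgroup.mem_subgroupOf.2 (X.mem_of_twist_eq hη hx),
      fun hx => X.twist_of_mem x (Subgroup.mem_subgroupOf.1 hx) η⟩)).trans X.cardK

end Ctx

end Cfsg.Agent.Lie.Feit
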