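import Cfsg.Agent.Lib.Lie.Feit.Setup
import Cfsg.Agent.S0881
import Cfsg.Agent.Lib.Char.Inflate
import Cfsg.Agent.Lib.Perm.PermChar

/-!
The permutation character and the characters induced from linear characters of the point stabiliser.
-/

set_option autoImplicit false
set_option linter.unusedSectionVars false
set_option linter.style.haveILetI false

namespace Cfsg.Agent.Lie.Feit

open MulAction Cfsg
open Cfsg.Agent.Lie.ZassenhausCount
open Cfsg.Agent.Char
open scoped ComplexConjugate

universe u v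

variable {G : Type u} {Ω : Type v} [Group G] [MulAction G Ω] [Fintype Ω] [FaithfulSMul G Ω] [Fintype G]
  [IsSimpleGroup G] {H : Subgroup G} {a b : Ω} {h e : ℕ}

/-- The trivial character. -/
noncomputable def oneChar (G : Type u) [Group G] [Fintype G] : IrrCharacter G := ⟨fun _ => 1, isIrrCharacter_one⟩

namespace Ctx

variable (X : Ctx G Ω H a b h e)
include X

theorem isZassenhaus : Cfsg.IsZassenhausGroup G Ω := by
  refine ⟨inferInstance, X.h2, X.h3, ?_, fun N hN htr => ?_⟩
  · have h1 : 1 < Nat.card ↥(stabilizer G a ⊓ stabilizer G b) := by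
      rw [X.ecard]; have := X.ethree; omega
    haveI := Finite.one_lt_card_iff_nontrivial.1 h1
    obtain ⟨x, hx⟩ := exists_ne (1 : ↥(stabilizer G a ⊓ stabilizer G b))
    exact ⟨x, fun e => hx (Subtype.ext e), a, b, X.ab, x.2.1, x.2.2⟩
  · rcases hN.eq_bot_or_eq_top with rfl | rfl
    · obtain ⟨n, hn⟩ := htr.exists_smul_eq a b
      refine absurd ?_ X.ab
      rw [Subgroup.mem_bot.1 n.2 |> Subtype.ext (a2 := (1 : (⊥ : Subgroup G))), one_smul] at hn
      exact hn
    · haveI : Nontrivial H := Finite.one_lt_card_iff_nontrivial.1 (by rw [X.hcard]; exact X.two)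
      obtain ⟨u, hu⟩ := exists_ne (1 : H)
      refine ⟨a, fun e => hu ?_⟩
      have : (⟨u, Subgroup.mem_top _⟩ : (⊤ : Subgroup G)) ∈ stabilizer (⊤ : Subgroup G) a := X.hle u.2
      rw [e, Subgroup.mem_bot] at this
      have h1 : (u : G) = ((1 : (⊤ : Subgroup G)) : G) := congrArg Subtype.val this
      exact Subtype.ext (by simpa using h1)

theorem elle : Nat.card ↥(stabilizer G a ⊓ stabilizer G b) < Fintype.card Ω - 2 := by
  rw [X.ecard, X.card]; have := X.big; have := X.e_pos; omega

theorem swap_exists : ∃ s : G, s • a = b ∧ s • b = a :=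
  is_two_pretransitive_iff.1 X.h2 X.ab X.ab.symm

variable [Fintype ↥(stabilizer G a)]

theorem normalK : (H.subgroupOf (stabilizer G a)).Normal :=
  ⟨fun u hu g => by
    rw [Subgroup.mem_subgroupOf] at hu ⊢
    exact X.conj_mem g.2 hu⟩

theorem indexK : (H.subgroupOf (stabilizer G a)).index = e := by
  have h1 := Subgroup.card_mul_index (H.subgroupOf (stabilizer G a))
  rw [Nat.card_congr (Subgroup.subgroupOfEquivOfLe X.hle).toEquiv, X.hcard, X.card_stab] at h1
  exact Nat.eq_of_mul_eq_mul_left (by have := X.two; omega) h1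

/-- The number of linear characters of the stabiliser trivial on the kernel. -/
theorem card_lin : Nat.card {l : ↥(stabilizer G a) →* ℂˣ // ∀ u : ↥(stabilizer G a), (u : G) ∈ H → l u = 1} = e := by
  haveI := X.normalK
  set Q := ↥(stabilizer G a) ⧸ H.subgroupOf (stabilizer G a)
  haveI : Fintype Q := Fintype.ofFinite _
  have hc : commutator Q = ⊥ := by
    rw [commutator_def, Subgroup.commutator_eq_bot_iff_le_centralizer]
    intro x _
    rw [Subgroup.mem_centralizer_iff]
    intro y _
    obtain ⟨g, rfl⟩ := QuotientGroup.mk_surjective x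
    obtain ⟨g', rfl⟩ := QuotientGroup.mk_surjective y
    rw [← mul_inv_eq_one, mul_inv_rev, ← mul_assoc, ← QuotientGroup.mk_mul, ← QuotientGroup.mk_inv,
      ← QuotientGroup.mk_mul, ← QuotientGroup.mk_inv, ← QuotientGroup.mk_mul, QuotientGroup.eq_one_iff,
      Subgroup.mem_subgroupOf]
    exact X.comm_mod g'.2 g.2
  let f : (Q →* ℂˣ) ≃ {l : ↥(stabilizer G a) →* ℂˣ // ∀ u : ↥(stabilizer G a), (u : G) ∈ H → l u = 1} :=
    { toFun := fun l => ⟨l.comp (QuotientGroup.mk' _), fun u hu => by
        rw [MonoidHom.comp_apply, QuotientGroup.mk'_apply, (QuotientGroup.eq_one_iff u).2 hu, map_one]⟩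
      invFun := fun l => QuotientGroup.lift _ l.1 fun u hu => MonoidHom.mem_ker.2 (l.2 u hu)
      left_inv := fun l => by
        ext g; rfl
      right_inv := fun l => by ext g; rfl }
  rw [← Nat.card_congr f, card_hom_units, hc, Subgroup.index_bot, ← Subgroup.index_eq_card]
  exact X.indexK

theorem ind_irr (l : ↥(stabilizer G a) →* ℂˣ) (hl : ∀ u : ↥(stabilizer G a), (u : G) ∈ H → l u = 1) (hne : l ≠ 1) :
    IsIrrCharacter G (indFun (stabilizer G a) fun g => (l g : ℂ)) ∧
      indFun (stabilizer G a) (fun g => (l g : ℂ)) 1 = (h : ℂ) + 1 ∧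
      ∀ u ∈ H, u ≠ 1 → indFun (stabilizer G a) (fun g => (l g : ℂ)) u = 1 := by
  obtain ⟨h1, h2⟩ := Cfsg.Agent.S0881.result X.isZassenhaus X.ab (X.ecard.symm ▸ X.eodd) X.elle H X.hle
    (by rw [X.hcard, X.card]) X.honly (fun g => (l g : ℂ)) ⟨isCharacter_linear l, by simp⟩
    (fun u hu => by rw [hl u hu, Units.val_one])
    (fun e => hne (MonoidHom.ext fun g => Units.ext (by simpa using congrFun e g)))
  haveI := X.h2
  haveI : IsPretransitive G Ω := isPretransitive_of_is_two_pretransitive
  refine ⟨h1, ?_, h2⟩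
  rw [indFun_one, index_stabilizer_of_transitive, Nat.card_eq_fintype_card, X.card]
  simp

theorem ind_zero (θ : ↥(stabilizer G a) → ℂ) {g : G} (hg : ∀ c : Ω, g • c ≠ c) :
    indFun (stabilizer G a) θ g = 0 := by
  rw [indFun, Finset.sum_eq_zero, mul_zero]
  intro x _
  refine extendByZero_not_mem _ _ fun hm => hg (x • a) ?_
  have hm' : (x⁻¹ * g * x) • a = a := hm
  rwa [mul_smul, mul_smul, inv_smul_eq_iff] at hm'

theorem ind_real (l : ↥(stabilizer G a) →* ℂˣ) (hl : ∀ u : ↥(stabilizer G a), (u : G) ∈ H → l u = 1) (hne : l ≠ 1)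
    (g : G) : conj (indFun (stabilizer G a) (fun g => (l g : ℂ)) g) = indFun (stabilizer G a) (fun g => (l g : ℂ)) g := by
  obtain ⟨hirr, h1, hu1⟩ := X.ind_irr l hl hne
  set F := indFun (stabilizer G a) fun g => (l g : ℂ) with hF
  have hcl : IsClassFunction G F := isClassFunction_indFun _ _
  by_cases hg : ∀ c : Ω, g • c ≠ c
  · rw [hF, X.ind_zero _ hg, map_zero]
  push Not at hg
  obtain ⟨c, hc⟩ := hg
  haveI := X.h2
  haveI : IsPretransitive G Ω := isPretransitive_of_is_two_pretransitive
  obtain ⟨k, rfl⟩ := MulAction.exists_smul_eq G a c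
  have hg' : k⁻¹ * g * k ∈ stabilizer G a := by
    show (k⁻¹ * g * k) • a = a
    rw [mul_smul, mul_smul, hc, inv_smul_smul]
  rw [show g = k * (k⁻¹ * g * k) * k⁻¹ by group, hcl]
  rcases X.cases_mem hg' with hH | ⟨m, hm, x, hx, hx1, he⟩
  · by_cases h0 : k⁻¹ * g * k = 1
    · rw [h0, h1]; simp
    · rw [hu1 _ hH h0, map_one]
  · rw [he, hcl, ← char_inv (irr_isCharacter hirr)]
    obtain ⟨s, hs1, hs2⟩ := X.swap_exists
    rw [← (X.swap s hs1 hs2).2 x hx, hcl]

variable [Fintype H]

theorem kernel_sum_nat {F : G → ℂ} (hF : IsCharacter G F) : ∃ m : ℕ, ∑ u : H, F u = (h : ℂ) * m := by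
  obtain ⟨m, hm⟩ := classInner_natCast (isCharacter_comp H.subtype hF) (isCharacter_one (G := H))
  refine ⟨m, ?_⟩
  rw [← hm, classInner, X.hcard, ← mul_assoc,
    mul_inv_cancel₀ (Nat.cast_ne_zero.2 (by have := X.two; omega)), one_mul]
  simp

omit [Fintype H] in
theorem permChar_one : Perm.PermChar.permChar G Ω 1 = (h : ℂ) + 1 := by
  simp [Perm.PermChar.permChar, fixedBy, Nat.card_eq_fintype_card, X.card]

/-- The permutation character less the trivial character is irreducible. -/
theorem st_irr : IsIrrCharacter G (fun g => Perm.PermChar.permChar G Ω g - 1) := by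
  classical
  haveI := X.h2
  haveI : IsPretransitive G Ω := isPretransitive_of_is_two_pretransitive
  set π := Perm.PermChar.permChar G Ω with hπ
  have hgen : IsGeneralizedCharacter G (fun g => π g - 1) :=
    ⟨π, fun _ => 1, Perm.PermChar.isCharacter_permChar, isCharacter_one, rfl⟩
  have horb : Nat.card (orbitRel.Quotient (stabilizer G a) Ω) = 2 := by
    rw [Nat.card_eq_two_iff]
    refine ⟨⟦a⟧, ⟦b⟧, fun e => ?_, Set.eq_univ_iff_forall.2 fun q => ?_⟩
    · obtain ⟨k, hk⟩ := Quotient.exact e
      exact X.smul_b_ne k.2 hk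
    · induction q using Quotient.inductionOn with
      | _ c =>
        by_cases hc : c = a
        · exact Or.inl (by rw [hc])
        · refine Or.inr (Quotient.sound ?_)
          obtain ⟨k, hka, hkb⟩ := exists_pair X.toOddCtx (Ne.symm hc)
          exact ⟨⟨k, hka⟩, hkb⟩
  have hnorm : classInner (fun g => π g - 1) (fun g => π g - 1) = 1 := by
    rw [show (fun g => π g - 1) = π - (fun _ => 1) from rfl, classInner_sub_left, classInner_sub_right,
      classInner_sub_right, hπ, Perm.PermChar.inner_self a, Perm.PermChar.inner_one a, horb,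
      ← classInner_symm (Perm.PermChar.permChar G Ω) (fun _ => 1), Perm.PermChar.inner_one a,
      irr_self isIrrCharacter_one, map_one]
    norm_num
  obtain ⟨ε, χ, hε, hχ⟩ := exists_sign_of_norm_one hgen hnorm
  rcases hε with rfl | rfl
  · rw [Int.cast_one, one_smul] at hχ
    rw [hχ]; exact χ.2
  · exfalso
    have h1 : π 1 - 1 = -((χ : G → ℂ) 1) := by
      rw [show π 1 - 1 = _ from congrFun hχ 1]; simp
    have h2 : π 1 = (h : ℂ) + 1 := by
      rw [hπ, X.permChar_one]
    rw [h2, char_one_eq_deg (irr_isCharacter χ.2)] at h1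
    have h3 : ((h + deg (χ : G → ℂ) : ℕ) : ℂ) = 0 := by push_cast; linear_combination h1
    have h4 : h + deg (χ : G → ℂ) = 0 := by exact_mod_cast h3
    have := X.two; omega

theorem permChar_of_mem {u : G} (hu : u ∈ H) (hu1 : u ≠ 1) : Perm.PermChar.permChar G Ω u = 1 := by
  have h1 : fixedBy Ω u = {a} := by
    ext c
    simp only [mem_fixedBy, Set.mem_singleton_iff]
    exact ⟨X.honly u hu hu1 c, fun e => e ▸ X.hle hu⟩
  rw [Perm.PermChar.permChar, h1]; simp

/-- The characters that occur in the characters induced from linear ones. -/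
theorem exists_known : ∃ (st : IrrCharacter G) (P : Finset (IrrCharacter G)),
    2 * P.card = e - 1 ∧ oneChar G ≠ st ∧ oneChar G ∉ P ∧ st ∉ P ∧
    (st : G → ℂ) 1 = h ∧ (∀ u ∈ H, u ≠ 1 → (st : G → ℂ) u = 0) ∧
    (∀ g : G, (∀ c : Ω, g • c ≠ c) → (st : G → ℂ) g = -1) ∧
    (∀ χ ∈ P, (χ : G → ℂ) 1 = (h : ℂ) + 1 ∧ (∀ u ∈ H, u ≠ 1 → (χ : G → ℂ) u = 1) ∧
      (∀ g : G, (∀ c : Ω, g • c ≠ c) → (χ : G → ℂ) g = 0) ∧
      ∃ l : ↥(stabilizer G a) →* ℂˣ, (∀ u : ↥(stabilizer G a), (u : G) ∈ H → l u = 1) ∧
        (χ : G → ℂ) = indFun (stabilizer G a) fun g => (l g : ℂ)) ∧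
    ∀ χ : IrrCharacter G, χ ≠ oneChar G → χ ≠ st → χ ∉ P →
      ∀ l : ↥(stabilizer G a) →* ℂˣ, (∀ u : ↥(stabilizer G a), (u : G) ∈ H → l u = 1) →
        classInner (fun g : stabilizer G a => (χ : G → ℂ) g) (fun g => (l g : ℂ)) = 0 := by
  classical
  haveI := X.h2
  haveI : IsPretransitive G Ω := isPretransitive_of_is_two_pretransitive
  let L := {l : ↥(stabilizer G a) →* ℂˣ // ∀ u : ↥(stabilizer G a), (u : G) ∈ H → l u = 1}
  haveI : Finite L := Nat.finite_of_card_ne_zero (by rw [X.card_lin]; have := X.e_pos; omega)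
  haveI : Fintype L := Fintype.ofFinite L
  let one' : L := ⟨1, fun _ _ => rfl⟩
  let f : {l : L // l ≠ one'} → IrrCharacter G := fun l =>
    ⟨_, (X.ind_irr l.1.1 l.1.2 fun e => l.2 (Subtype.ext e)).1⟩
  have hfv : ∀ l : {l : L // l ≠ one'}, (f l : G → ℂ) 1 = (h : ℂ) + 1 ∧
      ∀ u ∈ H, u ≠ 1 → (f l : G → ℂ) u = 1 := fun l => (X.ind_irr l.1.1 l.1.2 fun e => l.2 (Subtype.ext e)).2
  set P : Finset (IrrCharacter G) := Finset.univ.image f with hP
  let st : IrrCharacter G := ⟨_, X.st_irr⟩
  have hh : (h : ℂ) ≠ 0 := Nat.cast_ne_zero.2 (by have := X.two; omega)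
  have h1P : ∀ l, f l ≠ oneChar G := fun l e => by
    have := (hfv l).1
    rw [e] at this
    exact hh (by simpa [oneChar] using this.symm)
  have hsP : ∀ l, f l ≠ st := fun l e => by
    have := (hfv l).1
    rw [e] at this
    simp only [st, X.permChar_one] at this
    exact one_ne_zero (by linear_combination (norm := ring_nf) -this : (1 : ℂ) = 0)
  have hfib : ∀ χ ∈ P, (Finset.univ.filter fun l => f l = χ).card = 2 := by
    intro χ hχ
    obtain ⟨l₀, -, rfl⟩ := Finset.mem_image.1 hχ
    set T := (Finset.univ.filter fun l => f l = f l₀) with hT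
    refine le_antisymm ?_ ?_
    · -- at most two
      have hres : IsCharacter (stabilizer G a) (fun g : stabilizer G a => (f l₀ : G → ℂ) g) :=
        isCharacter_comp (stabilizer G a).subtype (irr_isCharacter (f l₀).2)
      obtain ⟨c, hc⟩ := exists_decomposition hres
      let ι : {l : L // l ≠ one'} → IrrCharacter (stabilizer G a) := fun l => ⟨_, isIrrCharacter_linear l.1.1⟩
      have hι : Function.Injective ι := fun l l' e => Subtype.ext (Subtype.ext (MonoidHom.ext fun g =>
        Units.ext (congrFun (congrArg Subtype.val e) g)))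
      have hcT : ∀ l ∈ T, c (ι l) = 1 := by
        intro l hl
        have h1 := decomposition_coeff c hc (ι l)
        rw [← frobenius_right (stabilizer G a) _ (isClassFunction_character (irr_isCharacter (f l₀).2))] at h1
        change classInner (f l₀ : G → ℂ) (f l : G → ℂ) = _ at h1
        rw [(Finset.mem_filter.1 hl).2, irr_self (f l₀).2] at h1
        exact_mod_cast h1.symm
      have hsum : ∑ u : H, (f l₀ : G → ℂ) u = 2 * (h : ℂ) := by
        rw [← Finset.add_sum_erase _ _ (Finset.mem_univ (1 : H)), OneMemClass.coe_one, (hfv l₀).1,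
          Finset.sum_congr rfl (g := fun _ => (1 : ℂ)) fun (u : H) hu => (hfv l₀).2 _ u.2 fun e =>
            (Finset.mem_erase.1 hu).1 (Subtype.ext e), Finset.sum_const, Finset.card_erase_of_mem (Finset.mem_univ _),
          Finset.card_univ, ← Nat.card_eq_fintype_card, X.hcard, nsmul_one, Nat.cast_sub (by have := X.two; omega)]
        push_cast; ring
      have hnn : ∀ χ : IrrCharacter (stabilizer G a), ∃ m : ℕ,
          ∑ u : H, (χ : stabilizer G a → ℂ) ⟨u, X.hle u.2⟩ = (h : ℂ) * m := by
        intro χ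
        obtain ⟨m, hm⟩ := classInner_natCast (isCharacter_comp (Subgroup.inclusion X.hle) (irr_isCharacter χ.2))
          (isCharacter_one (G := H))
        refine ⟨m, ?_⟩
        rw [← hm, classInner, X.hcard, ← mul_assoc, mul_inv_cancel₀ hh, one_mul]
        simp [Subgroup.inclusion]
      choose m hm using hnn
      have hexp : ∑ u : H, (f l₀ : G → ℂ) u = ((∑ χ, c χ * m χ : ℕ) : ℂ) * h := by
        have h0 : ∀ u : H, (f l₀ : G → ℂ) u = ∑ χ, (c χ : ℂ) * (χ : stabilizer G a → ℂ) ⟨u, X.hle u.2⟩ := fun u => by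
          have := congrFun hc ⟨u, X.hle u.2⟩
          simpa [Finset.sum_apply, nsmul_eq_mul] using this
        rw [Fintype.sum_congr _ _ h0, Finset.sum_comm, Nat.cast_sum, Finset.sum_mul]
        refine Finset.sum_congr rfl fun χ _ => ?_
        rw [← Finset.mul_sum, hm]
        push_cast; ring
      rw [hsum] at hexp
      have h2 : ∑ χ, c χ * m χ = 2 := by
        have h3 : ((∑ χ, c χ * m χ : ℕ) : ℂ) = (2 : ℕ) := mul_right_cancel₀ hh (by rw [← hexp]; norm_num)
        exact_mod_cast h3
      rw [← h2, ← Finset.card_image_of_injective T hι, Finset.card_eq_sum_ones]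
      refine le_trans (Finset.sum_le_sum fun χ hχ => ?_) (Finset.sum_le_sum_of_subset (Finset.subset_univ _))
      obtain ⟨l, hl, rfl⟩ := Finset.mem_image.1 hχ
      rw [hcT l hl, one_mul]
      have h4 := hm (ι l)
      rw [Finset.sum_congr rfl (g := fun _ => (1 : ℂ)) fun u _ => by
        show ((l.1.1 ⟨u, X.hle u.2⟩ : ℂˣ) : ℂ) = 1
        rw [l.1.2 ⟨u, X.hle u.2⟩ u.2, Units.val_one], Finset.sum_const, Finset.card_univ,
        ← Nat.card_eq_fintype_card, X.hcard, nsmul_one] at h4
      have h5 : ((1 : ℕ) : ℂ) = (m (ι l) : ℂ) := mul_left_cancel₀ hh (by rw [Nat.cast_one, mul_one]; exact h4)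
      exact le_of_eq (by exact_mod_cast h5)
    · -- the conjugate
      let l₁ : L := ⟨l₀.1.1⁻¹, fun u hu => by rw [MonoidHom.inv_apply, l₀.1.2 u hu, inv_one]⟩
      have hne1 : l₁ ≠ one' := fun e => l₀.2 (Subtype.ext
        (MonoidHom.ext fun g => inv_eq_one.1 (DFunLike.congr_fun (congrArg Subtype.val e) g)))
      have hconj : (fun g => ((l₁.1 g : ℂˣ) : ℂ)) = fun g => conj ((l₀.1.1 g : ℂˣ) : ℂ) := funext fun g => by
        rw [← char_inv (isCharacter_linear l₀.1.1)]
        simp [l₁]
      have hne : l₀.1 ≠ l₁ := by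
        intro heq
        apply l₀.2
        refine Subtype.ext (MonoidHom.ext fun g => ?_)
        have h1 : l₀.1.1 g * l₀.1.1 g = 1 := by
          have h2 := congrArg (fun l : L => l.1 g) heq
          simp only [l₁, MonoidHom.inv_apply] at h2
          nth_rewrite 1 [h2]
          exact inv_mul_cancel _
        obtain ⟨u, hu, x, hx, hg⟩ := X.exists_factor g.2
        have hgx : l₀.1.1 g = l₀.1.1 ⟨x, hx.1⟩ := by
          rw [show g = ⟨u, X.hle hu⟩ * ⟨x, hx.1⟩ from Subtype.ext hg, map_mul, l₀.1.2 _ hu, one_mul]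
        have hxe : l₀.1.1 ⟨x, hx.1⟩ ^ e = 1 := by
          rw [← map_pow, show (⟨x, hx.1⟩ : stabilizer G a) ^ e = 1 from Subtype.ext ?_, map_one]
          rw [SubmonoidClass.coe_pow, OneMemClass.coe_one, ← X.ecard]
          exact congrArg Subtype.val (pow_card_eq_one' (x := (⟨x, hx⟩ : ↥(stabilizer G a ⊓ stabilizer G b))))
        obtain ⟨j, hj⟩ := X.eodd
        rw [← hgx, hj, pow_succ, pow_mul, sq, h1, one_pow, one_mul] at hxe
        exact hxe
      have hf : f ⟨l₁, hne1⟩ = f l₀ := Subtype.ext (funext fun g => by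
        show indFun (stabilizer G a) (fun g => ((l₁.1 g : ℂˣ) : ℂ)) g = indFun (stabilizer G a) _ g
        rw [hconj, ← X.ind_real l₀.1.1 l₀.1.2 (fun e => l₀.2 (Subtype.ext e)) g]
        simp only [indFun, map_mul, map_inv₀, map_natCast, map_sum]
        congr 1
        refine Finset.sum_congr rfl fun x _ => ?_
        by_cases hx : x⁻¹ * g * x ∈ stabilizer G a
        · rw [extendByZero_mem _ _ hx, extendByZero_mem _ _ hx]
        · rw [extendByZero_not_mem _ _ hx, extendByZero_not_mem _ _ hx, map_zero])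
      have hlt : ({l₀, ⟨l₁, hne1⟩} : Finset {l : L // l ≠ one'}) ⊆ T := fun l hl => by
        rw [Finset.mem_insert, Finset.mem_singleton] at hl
        rcases hl with rfl | rfl <;> simp [hT, hf]
      refine le_trans (le_of_eq ?_) (Finset.card_le_card hlt)
      rw [Finset.card_pair]
      exact fun e => hne (congrArg Subtype.val e)
  refine ⟨st, P, ?_, fun e => ?_, fun h => ?_, fun h => ?_, ?_, fun u hu hu1 => ?_, fun g hg => ?_,
    fun χ hχ => ?_, fun χ h1 h2 h3 l hl => ?_⟩
  · have hc : (Finset.univ : Finset {l : L // l ≠ one'}).card = P.card * 2 := by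
      rw [Finset.card_eq_sum_card_image f, Finset.sum_congr rfl hfib, Finset.sum_const, smul_eq_mul, hP]
    rw [Finset.card_univ, Fintype.card_subtype_compl, Fintype.card_subtype_eq,
      ← Nat.card_eq_fintype_card, X.card_lin] at hc
    omega
  · have := congrArg (fun χ : IrrCharacter G => (χ : G → ℂ) 1) e
    simp only [oneChar, st, X.permChar_one, add_sub_cancel_right] at this
    have h' : h = 1 := by exact_mod_cast this.symm
    have := X.two; omega
  · obtain ⟨l, -, hl⟩ := Finset.mem_image.1 h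
    exact h1P l hl
  · obtain ⟨l, -, hl⟩ := Finset.mem_image.1 h
    exact hsP l hl
  · simp only [st, X.permChar_one, add_sub_cancel_right]
  · simp only [st, X.permChar_of_mem hu hu1, sub_self]
  · have h0 : fixedBy Ω g = ∅ := Set.eq_empty_iff_forall_notMem.2 hg
    simp [st, Perm.PermChar.permChar, h0]
  · obtain ⟨l', -, rfl⟩ := Finset.mem_image.1 hχ
    exact ⟨(hfv l').1, (hfv l').2, fun g hg => X.ind_zero _ hg, l'.1.1, l'.1.2, rfl⟩
  · rw [← frobenius_right (stabilizer G a) _ (isClassFunction_character (irr_isCharacter χ.2))]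
    by_cases h' : (⟨l, hl⟩ : L) = one'
    · have e1 : l = 1 := congrArg Subtype.val h'
      subst e1
      have h0 : classInner (χ : G → ℂ) (fun g => Perm.PermChar.permChar G Ω g) = 0 := by
        rw [show (fun g => Perm.PermChar.permChar G Ω g) = (st : G → ℂ) + (oneChar G : G → ℂ) from
          funext fun g => by simp [st, oneChar], classInner_add_right, irrC_orth, irrC_orth, if_neg h2,
          if_neg h1, add_zero]
      rw [← classInner_symm, Perm.PermChar.inner_permChar a (isClassFunction_character (irr_isCharacter χ.2)),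
        map_mul, map_inv₀, map_natCast, map_sum] at h0
      rw [frobenius_right (stabilizer G a) _ (isClassFunction_character (irr_isCharacter χ.2)), classInner]
      simpa using h0
    · have hne : f ⟨⟨l, hl⟩, h'⟩ ≠ χ := fun e => h3 (e ▸ Finset.mem_image_of_mem _ (Finset.mem_univ _))
      have := irrC_orth χ (f ⟨⟨l, hl⟩, h'⟩)
      rw [if_neg (Ne.symm hne)] at this
      exact this

end Ctx

end Cfsg.Agent.Lie.Feit
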