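import Mathlib
import Cfsg.Agent.Lib.Lie.ZassenhausClasses

/-!
The point stabiliser of a Zassenhaus group with two-point stabilisers of odd order, as a Frobenius group.
-/

set_option autoImplicit false
set_option linter.unusedSectionVars false
set_option linter.style.haveILetI false

namespace Cfsg.Agent.Lie.Feit

open MulAction
open Cfsg.Agent.Lie.Zassenhaus
open Cfsg.Agent.Lie.ZassenhausCount

universe u v

variable {G : Type u} {Ω : Type v} [Group G] [MulAction G Ω] [Fintype Ω]

/-- A point stabiliser with a subgroup of its elements fixing only that point. -/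
structure Ctx (G : Type u) (Ω : Type v) [Group G] [MulAction G Ω] [Fintype Ω] (H : Subgroup G) (a b : Ω)
    (h e : ℕ) : Prop extends OddCtx G Ω a b h e where
  hle : H ≤ stabilizer G a
  hcard : Nat.card H = h
  honly : ∀ u ∈ H, u ≠ 1 → ∀ c : Ω, u • c = c → c = a
  big : 2 * e < h - 1

namespace Ctx

variable [FaithfulSMul G Ω] [Finite G] {H : Subgroup G} {a b : Ω} {h e : ℕ} (X : Ctx G Ω H a b h e)
include X

theorem e_pos : 0 < e := by have := X.ethree; omega

theorem smul_b_ne {k : G} (hk : k ∈ stabilizer G a) : k • b ≠ a := fun h =>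
  X.ab (MulAction.injective k (h.trans (hk : k • a = a).symm)).symm

theorem fix_pair {x : G} (hx : x ∈ stabilizer G a ⊓ stabilizer G b) (hx1 : x ≠ 1) {c : Ω} (hc : x • c = c) :
    c = a ∨ c = b := by
  by_contra h
  rw [not_or] at h
  exact hx1 (X.h3 _ a b c X.ab (Ne.symm h.2) (Ne.symm h.1) hx.1 hx.2 hc)

theorem orbit_inj {k k' : G} (hk : k ∈ H) (hk' : k' ∈ H) (h : k • b = k' • b) : k = k' := by
  by_contra hne
  refine X.ab (X.honly (k'⁻¹ * k) (mul_mem (inv_mem hk') hk) ?_ b ?_).symm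
  · exact fun e => hne (inv_mul_eq_one.1 e).symm
  · rw [mul_smul, h, inv_smul_smul]

theorem card_stab : Nat.card (stabilizer G a) = h * e := by
  classical
  haveI := Fintype.ofFinite G
  haveI := X.h2
  haveI : IsPretransitive G Ω := isPretransitive_of_is_two_pretransitive
  have h1 := Subgroup.card_mul_index (stabilizer G a)
  rw [index_stabilizer_of_transitive, Nat.card_eq_fintype_card (α := Ω), X.card, Nat.card_eq_fintype_card (α := G),
    card_group X.toOddCtx] at h1
  exact Nat.eq_of_mul_eq_mul_right (show 0 < h + 1 by omega) (h1.trans (by ring))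

/-- Every element of the stabiliser is in the kernel or conjugate to a two-point element. -/
theorem cases_mem {g : G} (hg : g ∈ stabilizer G a) :
    g ∈ H ∨ ∃ k ∈ H, ∃ x ∈ stabilizer G a ⊓ stabilizer G b, x ≠ 1 ∧ g = k * x * k⁻¹ := by
  classical
  haveI := Fintype.ofFinite G
  set E := stabilizer G a ⊓ stabilizer G b with hE
  let Ψ : H ⊕ H × {x : E // x ≠ 1} → stabilizer G a := fun s => match s with
    | Sum.inl k => ⟨k, X.hle k.2⟩
    | Sum.inr (k, x) => ⟨k * (x : E) * (k : G)⁻¹,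
        mul_mem (mul_mem (X.hle k.2) (x : E).2.1) (inv_mem (X.hle k.2))⟩
  have hmix : ∀ (k k' : H) (x : {x : E // x ≠ 1}), (k : G) ≠ k' * (x : E) * (k' : G)⁻¹ := by
    intro k k' x h'
    by_cases hk : (k : G) = 1
    · rw [hk, eq_comm, conj_eq_one_iff] at h'
      exact x.2 (Subtype.ext h')
    · refine X.smul_b_ne (X.hle k'.2) (X.honly _ k.2 hk _ ?_)
      rw [h', mul_smul, mul_smul, inv_smul_smul, (x : E).2.2]
  have hΨ : Function.Injective Ψ := by
    rintro (k | ⟨k, x⟩) (k' | ⟨k', x'⟩) h' <;> have h'' := congrArg Subtype.val h'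
    · exact congrArg Sum.inl (Subtype.ext h'')
    · exact absurd h'' (hmix k k' x')
    · exact absurd h''.symm (hmix k' k x)
    · have e1 : (k : G) * (x : E) * (k : G)⁻¹ = k' * (x' : E) * (k' : G)⁻¹ := h''
      have hkk : k = k' := by
        refine Subtype.ext (X.orbit_inj k.2 k'.2 ?_)
        have h1 : ((x' : E) : G) • (k' : G)⁻¹ • (k : G) • b = (k' : G)⁻¹ • (k : G) • b := by
          have h2 : ((k : G) * (x : E) * (k : G)⁻¹) • (k : G) • b = (k : G) • b := by
            rw [mul_smul, mul_smul, inv_smul_smul, (x : E).2.2]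
          rw [e1, mul_smul, mul_smul] at h2
          conv_rhs => rw [← h2, inv_smul_smul]
        rcases X.fix_pair (x' : E).2 (fun e => x'.2 (Subtype.ext e)) h1 with h2 | h2
        · rw [inv_smul_eq_iff, (X.hle k'.2 : (k' : G) • a = a)] at h2
          exact absurd h2 (X.smul_b_ne (X.hle k.2))
        · rwa [inv_smul_eq_iff] at h2
      subst hkk
      exact congrArg Sum.inr (Prod.ext rfl (Subtype.ext (Subtype.ext (mul_left_cancel (mul_right_cancel e1)))))
  have hbij : Function.Bijective Ψ := by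
    refine (Fintype.bijective_iff_injective_and_card Ψ).2 ⟨hΨ, ?_⟩
    rw [Fintype.card_sum, Fintype.card_prod, Fintype.card_subtype_compl, Fintype.card_subtype_eq,
      ← Nat.card_eq_fintype_card (α := stabilizer G a), X.card_stab, ← Nat.card_eq_fintype_card (α := H),
      ← Nat.card_eq_fintype_card (α := E), X.hcard, hE, X.ecard]
    obtain ⟨j, hj⟩ : ∃ j, e = j + 1 := ⟨e - 1, by have := X.e_pos; omega⟩
    rw [hj, Nat.add_sub_cancel]
    ring
  obtain ⟨s, hs⟩ := hbij.2 ⟨g, hg⟩
  have hs' := congrArg Subtype.val hs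
  rcases s with k | ⟨k, x⟩
  · have e1 : (k : G) = g := hs'
    exact Or.inl (e1 ▸ k.2)
  · exact Or.inr ⟨k, k.2, _, (x : E).2, fun e => x.2 (Subtype.ext e), hs'.symm⟩

theorem mem_of_only {g : G} (hg : g ∈ stabilizer G a) (h1 : ∀ c : Ω, g • c = c → c = a) : g ∈ H := by
  rcases X.cases_mem hg with h' | ⟨k, hk, x, hx, -, rfl⟩
  · exact h'
  · refine absurd (h1 (k • b) ?_) (X.smul_b_ne (X.hle hk))
    rw [mul_smul, mul_smul, inv_smul_smul, hx.2]

theorem conj_mem {g u : G} (hg : g ∈ stabilizer G a) (hu : u ∈ H) : g * u * g⁻¹ ∈ H := by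
  by_cases hu1 : u = 1
  · subst hu1; simp
  refine X.mem_of_only (mul_mem (mul_mem hg (X.hle hu)) (inv_mem hg)) fun c hc => ?_
  rw [mul_smul, mul_smul, smul_eq_iff_eq_inv_smul] at hc
  have h1 := X.honly u hu hu1 _ hc
  rw [inv_smul_eq_iff, (hg : g • a = a)] at h1
  exact h1

theorem fusion {g u : G} (hu : u ∈ H) (hu1 : u ≠ 1) (hgu : g * u * g⁻¹ ∈ H) : g ∈ stabilizer G a := by
  show g • a = a
  refine X.honly _ hgu (by rw [ne_eq, conj_eq_one_iff]; exact hu1) _ ?_
  rw [mul_smul, mul_smul, inv_smul_smul, (X.hle hu : u • a = a)]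

theorem centralizer_le {u : G} (hu : u ∈ H) (hu1 : u ≠ 1) {g : G} (hg : g * u = u * g) : g ∈ H := by
  have hga : g ∈ stabilizer G a := X.fusion hu hu1 (by rw [hg, mul_inv_cancel_right]; exact hu)
  by_cases hg1 : g = 1
  · rw [hg1]; exact one_mem H
  refine X.mem_of_only hga fun c hc => ?_
  by_contra hca
  have hne : u • c ≠ c := fun e => hca (X.honly u hu hu1 c e)
  have hua : u • c ≠ a := fun e => hca (MulAction.injective u (e.trans (X.hle hu : u • a = a).symm))
  have hguc : g • u • c = u • c := by rw [smul_smul, hg, mul_smul, hc]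
  exact hg1 (X.h3 g a c (u • c) (Ne.symm hca) hne.symm hua.symm hga hc hguc)

theorem inf_eq_bot {x : G} (hx : x ∈ stabilizer G a ⊓ stabilizer G b) (hxH : x ∈ H) : x = 1 := by
  by_contra h1
  exact X.ab (X.honly x hxH h1 b hx.2).symm

/-- Every element of the stabiliser differs by the kernel from a two-point element. -/
theorem exists_factor {g : G} (hg : g ∈ stabilizer G a) :
    ∃ u ∈ H, ∃ x ∈ stabilizer G a ⊓ stabilizer G b, g = u * x := by
  rcases X.cases_mem hg with h' | ⟨k, hk, x, hx, -, rfl⟩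
  · exact ⟨g, h', 1, one_mem _, (mul_one g).symm⟩
  · exact ⟨k * (x * k⁻¹ * x⁻¹), mul_mem hk (X.conj_mem hx.1 (inv_mem hk)), x, hx, by group⟩

theorem comm_mod {g g' : G} (hg : g ∈ stabilizer G a) (hg' : g' ∈ stabilizer G a) :
    g * g' * g⁻¹ * g'⁻¹ ∈ H := by
  obtain ⟨u, hu, x, hx, rfl⟩ := X.exists_factor hg
  obtain ⟨v, hv, y, hy, rfl⟩ := X.exists_factor hg'
  have hxy : x * y = y * x := X.comm x hx y hy
  have e1 : u * x * (v * y) * (u * x)⁻¹ * (v * y)⁻¹ =
      u * (x * v * x⁻¹) * (y * u⁻¹ * y⁻¹) * v⁻¹ := by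
    calc u * x * (v * y) * (u * x)⁻¹ * (v * y)⁻¹ = u * (x * v * x⁻¹) * (x * y * x⁻¹) * u⁻¹ * y⁻¹ * v⁻¹ := by
          group
      _ = u * (x * v * x⁻¹) * (y * u⁻¹ * y⁻¹) * v⁻¹ := by rw [hxy, mul_inv_cancel_right]; group
  rw [e1]
  exact mul_mem (mul_mem (mul_mem hu (X.conj_mem hx.1 hv)) (X.conj_mem hy.1 (inv_mem hu))) (inv_mem hv)

theorem not_comm : ¬ ∀ x y : G, x * y = y * x := by
  intro hc
  haveI := X.h2
  haveI : IsPretransitive G Ω := isPretransitive_of_is_two_pretransitive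
  have hlt : 1 < Nat.card H := by rw [X.hcard]; exact X.two
  haveI := Finite.one_lt_card_iff_nontrivial.1 hlt
  obtain ⟨u, hu1⟩ := exists_ne (1 : H)
  refine hu1 (Subtype.ext (FaithfulSMul.eq_of_smul_eq_smul (α := Ω) fun c => ?_))
  obtain ⟨g, rfl⟩ := MulAction.exists_smul_eq G a c
  rw [smul_smul, hc, mul_smul, (X.hle u.2 : (u : G) • a = a)]
  simp

end Ctx

end Cfsg.Agent.Lie.Feit
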